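import Cfsg.Agent.H34.ComponentAction
import Mathlib.GroupTheory.NoncommPiCoprod

/-! The group generated by best offenders is a direct product of its components (`p = 2`). -/

set_option autoImplicit false

namespace Cfsg.Agent.H34

open Subgroup Matrix
open Cfsg
open scoped commutatorElement Pointwise

/-- The three nonzero vectors. -/
def vec3 : Fin 3 → (Fin 2 → ZMod 2) := ![![0, 1], ![1, 0], ![1, 1]]

/-- The position of a nonzero vector. -/
def idx3 (v : Fin 2 → ZMod 2) : Fin 3 := if v 0 = 0 then 0 else if v 1 = 0 then 1 else 2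

/-- The position is correct. -/
theorem vec3_idx3 : ∀ (g : SpecialLinearGroup (Fin 2) (ZMod 2)) (i : Fin 3),
    vec3 (idx3 ((g : Matrix (Fin 2) (Fin 2) (ZMod 2)) *ᵥ vec3 i)) =
      (g : Matrix (Fin 2) (Fin 2) (ZMod 2)) *ᵥ vec3 i := by decide +kernel

/-- `SL(2,2)` is the symmetric group of degree three. -/
theorem exists_sl2_two_equiv : Nonempty (SpecialLinearGroup (Fin 2) (ZMod 2) ≃* Equiv.Perm (Fin 3)) := by
  let e : SpecialLinearGroup (Fin 2) (ZMod 2) → Fin 3 → Fin 3 := fun g i =>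
    idx3 ((g : Matrix (Fin 2) (Fin 2) (ZMod 2)) *ᵥ vec3 i)
  have hidx : ∀ i, idx3 (vec3 i) = i := by decide
  have hmul : ∀ g h i, e (g * h) i = e g (e h i) := fun g h i => by
    simp only [e, vec3_idx3, mulVec_mulVec]
    rfl
  have hone : ∀ i, e 1 i = i := fun i => by
    show idx3 ((1 : Matrix (Fin 2) (Fin 2) (ZMod 2)) *ᵥ vec3 i) = i
    rw [one_mulVec, hidx]
  let f : SpecialLinearGroup (Fin 2) (ZMod 2) →* Equiv.Perm (Fin 3) :=
    { toFun := fun g => ⟨e g, e g⁻¹, fun i => by rw [← hmul, inv_mul_cancel, hone],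
        fun i => by rw [← hmul, mul_inv_cancel, hone]⟩
      map_one' := Equiv.ext hone
      map_mul' := fun g h => Equiv.ext (hmul g h) }
  have hinj : ∀ g, (∀ i, e g i = i) → g = 1 := by decide +kernel
  have hsurj : ∀ σ : Equiv.Perm (Fin 3), ∃ g, ∀ i, e g i = σ i := by decide +kernel
  exact ⟨MulEquiv.ofBijective f ⟨(injective_iff_map_eq_one f).2 fun g hg => hinj g fun i =>
    Equiv.ext_iff.1 hg i, fun σ => (hsurj σ).imp fun g hg => Equiv.ext hg⟩⟩

/-- `S₃` has trivial centre. -/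
theorem perm_three_center : ∀ σ : Equiv.Perm (Fin 3), (∀ τ, τ * σ = σ * τ) → σ = 1 := by decide +kernel

variable {G : Type*} [Group G] [Finite G] {V H : Subgroup G}

namespace FFSetup

variable (S : FFSetup 2 V H)
include S

/-- The group generated by best offenders is a product of symmetric groups of degree three. -/
theorem exists_equiv_perm_three
    (hgen : H = ⨆ X : {X : Subgroup G // X ≤ H ∧ IsBestOffenderOn 2 V X}, (X : Subgroup G))
    (hne : H ≠ ⊥) : ∃ n : ℕ, 1 ≤ n ∧ Nonempty (↥H ≃* (Fin n → Equiv.Perm (Fin 3))) := by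
  classical
  obtain ⟨φ⟩ := exists_sl2_two_equiv
  set 𝓔 : Set (Subgroup G) := {E | ∃ A, IsTransvectionGroup 2 V H A ∧ E = compOf 2 H A}
  let ι := ↥𝓔
  let E : ι → Subgroup G := fun i => i.1
  haveI : Fintype ι := Fintype.ofFinite _
  have hiso : ∀ i : ι, Nonempty (↥(E i) ≃* Equiv.Perm (Fin 3)) := by
    rintro ⟨_, A, hA, rfl⟩
    obtain ⟨e⟩ := (S.compFacts hA).iso
    exact ⟨e.trans φ⟩
  have hcomm : Pairwise fun i j => ∀ x y : G, x ∈ E i → y ∈ E j → Commute x y := by
    rintro ⟨_, A, hA, rfl⟩ ⟨_, B, hB, rfl⟩ hij x y hx hy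
    exact (mem_centralizer_iff.1 ((S.comp_commute hgen hA hB fun h => hij (Subtype.ext h)).2 hy) x hx)
  have hindep : iSupIndep E := by
    rintro ⟨F, A, hA, rfl⟩
    rw [disjoint_iff, eq_bot_iff]
    intro x hx
    obtain ⟨hxE, hxs⟩ := mem_inf.1 hx
    have hle : (⨆ (j : ι) (_ : j ≠ ⟨compOf 2 H A, A, hA, rfl⟩), E j) ≤
        centralizer ((compOf 2 H A : Subgroup G) : Set G) := by
      refine iSup₂_le fun j hj y hy => mem_centralizer_iff.2 fun z hz => ?_
      exact (hcomm hj.symm z y hz hy).eq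
    obtain ⟨e⟩ := hiso ⟨compOf 2 H A, A, hA, rfl⟩
    have : e ⟨x, hxE⟩ = 1 := by
      refine perm_three_center _ fun τ => ?_
      obtain ⟨z, rfl⟩ := e.surjective τ
      rw [← map_mul, ← map_mul]
      exact congrArg e (Subtype.ext (mem_centralizer_iff.1 (hle hxs) z z.2))
    exact mem_bot.2 (congrArg Subtype.val (e.map_eq_one_iff.1 this))
  have hsup : H = ⨆ i, E i := by
    refine le_antisymm ((S.le_sSup_transvections hgen).trans (sSup_le fun B hB => ?_)) (iSup_le ?_)
    · exact (le_sup_right : B ≤ compOf 2 H B).trans (le_iSup E ⟨_, B, hB, rfl⟩)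
    · rintro ⟨_, A, hA, rfl⟩
      exact (S.compFacts hA).le
  have hinj : Function.Injective (Subgroup.noncommPiCoprod hcomm) :=
    Subgroup.injective_noncommPiCoprod_of_iSupIndep hindep
  have hr : (Subgroup.noncommPiCoprod hcomm).range = H := (Subgroup.noncommPiCoprod_range).trans hsup.symm
  refine ⟨Fintype.card ι, ?_, ⟨?_⟩⟩
  · rw [Nat.one_le_iff_ne_zero, Ne, Fintype.card_eq_zero_iff]
    intro hempty
    exact hne (by rw [hsup, iSup_of_empty])
  · exact (MulEquiv.subgroupCongr hr.symm).trans ((MonoidHom.ofInjective hinj).symm.trans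
      ((MulEquiv.piCongrRight fun i => (hiso i).some).trans
        { Equiv.piCongrLeft' (fun _ : ι => Equiv.Perm (Fin 3)) (Fintype.equivFin ι) with
          map_mul' := fun _ _ => rfl }))

end FFSetup

end Cfsg.Agent.H34
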