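import Mathlib.GroupTheory.PGroup
import Mathlib.GroupTheory.Sylow
import Cfsg.Agent.H34.Conj
import Cfsg.Agent.H34.Thompson

/-! Stabilisers of two-step series and small product formulas. -/

set_option autoImplicit false

namespace Cfsg.Agent.H34

open Subgroup
open Cfsg
open scoped commutatorElement Pointwise

variable {G : Type*} [Group G] {p : ℕ} {V H U : Subgroup G}

/-- The subgroup of elements of `H` centralising `U` and acting trivially on `V / U`. -/
def stabilizerOfSeries (H V U : Subgroup G) : Subgroup G where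
  carrier := {c | c ∈ H ∧ (∀ u ∈ U, ⁅c, u⁆ = 1) ∧ ∀ v ∈ V, ⁅c, v⁆ ∈ U}
  one_mem' := ⟨H.one_mem, by simp, by simp⟩
  mul_mem' := by
    rintro a b ⟨ha, ha1, ha2⟩ ⟨hb, hb1, hb2⟩
    refine ⟨H.mul_mem ha hb, fun u hu => ?_, fun v hv => ?_⟩
    · rw [comm_mul_left, hb1 u hu, ha1 u hu]; simp
    · rw [comm_mul_left, show a * ⁅b, v⁆ * a⁻¹ = ⁅a, ⁅b, v⁆⁆ * ⁅b, v⁆ by
        simp [commutatorElement_def, mul_assoc], ha1 _ (hb2 v hv), one_mul]
      exact U.mul_mem (hb2 v hv) (ha2 v hv)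
  inv_mem' := by
    rintro a ⟨ha, ha1, ha2⟩
    have hfix : ∀ u ∈ U, a⁻¹ * u * a = u := fun u hu => by
      rw [mul_assoc, ← commutatorElement_eq_one_iff_mul_comm.1 (ha1 u hu), inv_mul_cancel_left]
    refine ⟨H.inv_mem ha, fun u hu => ?_, fun v hv => ?_⟩
    · rw [commutatorElement_def, inv_inv, hfix u hu, mul_inv_cancel]
    · have h := U.inv_mem (ha2 v hv)
      rw [commutatorElement_inv] at h
      rw [commutatorElement_inv_left, hfix _ h]
      exact h

/-- Membership in the stabiliser of a series. -/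
theorem mem_stabilizerOfSeries {c : G} :
    c ∈ stabilizerOfSeries H V U ↔
      c ∈ H ∧ (∀ u ∈ U, ⁅c, u⁆ = 1) ∧ ∀ v ∈ V, ⁅c, v⁆ ∈ U := Iff.rfl

/-- For faithful action on an elementary abelian group the stabiliser of a series is a `p`-group. -/
theorem isPGroup_stabilizerOfSeries (hV : IsElementaryAbelian p V) (hUV : U ≤ V)
    (hf : H ⊓ centralizer (V : Set G) = ⊥) : IsPGroup p (stabilizerOfSeries H V U) := by
  intro c
  obtain ⟨hcH, hc1, hc2⟩ := c.2
  refine ⟨1, Subtype.ext ?_⟩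
  have hpow : ∀ (n : ℕ) (v : G), v ∈ V → ⁅(c : G) ^ n, v⁆ = ⁅(c : G), v⁆ ^ n := by
    intro n v hv
    induction n with
    | zero => simp
    | succ n ih =>
      rw [pow_succ', comm_mul_left, ih,
        show (c : G) * ⁅(c : G), v⁆ ^ n * (c : G)⁻¹ = ⁅(c : G), ⁅(c : G), v⁆ ^ n⁆ * ⁅(c : G), v⁆ ^ n by
          simp [commutatorElement_def, mul_assoc], hc1 _ (U.pow_mem (hc2 v hv) n), one_mul, ← pow_succ]
  have : (c : G) ^ p ∈ H ⊓ centralizer (V : Set G) :=
    ⟨H.pow_mem hcH p, mem_centralizer_iff_comm.2 fun v hv => by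
      rw [hpow p v hv, hV.2 _ (hUV (hc2 v hv))]⟩
  rw [hf, Subgroup.mem_bot] at this
  simpa using this

/-- Conjugation of a commutator. -/
theorem conj_comm (g c v : G) : g * ⁅c, v⁆ * g⁻¹ = ⁅g * c * g⁻¹, g * v * g⁻¹⁆ :=
  conjugate_commutatorElement c v g

/-- Elements normalising `H`, `V` and `U` normalise the stabiliser. -/
theorem le_normalizer_stabilizerOfSeries {A : Subgroup G} (hH : A ≤ normalizer (H : Set G))
    (hV : A ≤ normalizer (V : Set G)) (hU : A ≤ normalizer (U : Set G)) :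
    A ≤ normalizer (stabilizerOfSeries H V U : Set G) := by
  intro g hg
  rw [mem_normalizer_iff]
  have key : ∀ g ∈ A, ∀ c ∈ stabilizerOfSeries H V U, g * c * g⁻¹ ∈ stabilizerOfSeries H V U := by
    rintro g hg c ⟨hcH, hc1, hc2⟩
    refine ⟨conj_mem_of_mem_normalizer (hH hg) hcH, fun u hu => ?_, fun v hv => ?_⟩
    · have h := hc1 _ ((mem_normalizer_iff''.1 (hU hg) u).1 hu)
      have := congrArg (fun t => g * t * g⁻¹) h
      simpa [commutatorElement_def, mul_assoc] using this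
    · have h := hc2 _ ((mem_normalizer_iff''.1 (hV hg) v).1 hv)
      have := conj_mem_of_mem_normalizer (hU hg) h
      simpa [commutatorElement_def, mul_assoc] using this
  intro c
  refine ⟨key g hg c, fun h => ?_⟩
  have := key g⁻¹ (A.inv_mem hg) _ h
  simpa [mul_assoc] using this

/-- An elementary abelian `A` is generated by any element and a subgroup avoiding it. -/
theorem exists_sup_zpowers_eq [Finite G] [Fact p.Prime] {A : Subgroup G}
    (hA : IsElementaryAbelian p A) {a : G} (ha : a ∈ A) (ha1 : a ≠ 1) :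
    ∃ B, B ≤ A ∧ a ∉ B ∧ B ⊔ zpowers a = A := by
  haveI := hA.1
  obtain ⟨B, hB⟩ := Set.Finite.exists_maximal
    (s := {B : Subgroup G | B ≤ A ∧ a ∉ B}) (Set.toFinite _) ⟨⊥, bot_le, by simpa using ha1⟩
  obtain ⟨⟨hBA, haB⟩, hmax⟩ := hB
  refine ⟨B, hBA, haB, le_antisymm (sup_le hBA (zpowers_le.2 ha)) fun y hy => ?_⟩
  by_contra hyn
  have hyB : y ∉ B := fun h => hyn (mem_sup_left h)
  have hle : B ⊔ zpowers y ≤ A := sup_le hBA (zpowers_le.2 hy)
  by_cases h : a ∈ B ⊔ zpowers y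
  · have hnorm : zpowers y ≤ normalizer (B : Set G) := by
      rw [zpowers_le]
      refine centralizer_le_normalizer _ fun b hb => ?_
      exact setLike_mul_comm (s := A) (hBA hb) hy
    have hset : (↑(B ⊔ zpowers y) : Set G) = (B : Set G) * (zpowers y : Set G) :=
      Subgroup.coe_mul_of_right_le_normalizer_left B (zpowers y) hnorm
    have ha' : a ∈ (B : Set G) * (zpowers y : Set G) := hset ▸ h
    obtain ⟨u, hu, z, hz, hua⟩ := Set.mem_mul.1 ha'
    obtain ⟨k, rfl⟩ := mem_zpowers_iff.1 (SetLike.mem_coe.1 hz)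
    apply hyn
    have hord : (orderOf y) ∣ p := orderOf_dvd_of_pow_eq_one (hA.2 y hy)
    have hk : ¬ (p : ℤ) ∣ k := by
      rintro ⟨m, rfl⟩
      rw [zpow_mul, zpow_natCast, hA.2 y hy, one_zpow, mul_one] at hua
      exact haB (hua ▸ hu)
    obtain ⟨r, s, hrs⟩ : ∃ r s : ℤ, r * k + s * p = 1 := by
      have hpr : Prime (p : ℤ) := Nat.prime_iff_prime_int.1 Fact.out
      obtain ⟨r, s, h⟩ := (hpr.coprime_iff_not_dvd.2 hk).symm
      exact ⟨r, s, h⟩
    have hyk : y = (y ^ k) ^ r := by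
      rw [← zpow_mul, mul_comm k r]
      conv_lhs => rw [← zpow_one y, ← hrs, zpow_add, mul_comm s (p : ℤ), zpow_mul y (p : ℤ) s,
        zpow_natCast, hA.2 y hy, one_zpow, mul_one]
    rw [hyk]
    refine zpow_mem ?_ r
    have : y ^ k = u⁻¹ * a := by rw [← hua, inv_mul_cancel_left]
    rw [this]
    exact mul_mem (inv_mem (mem_sup_left hu)) (mem_sup_right (mem_zpowers a))
  · exact hyB (hmax ⟨hle, h⟩ le_sup_left (mem_sup_right (mem_zpowers y)))

/-- Adjoining an element with `p`-th power inside multiplies the order by at most `p`. -/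
theorem card_sup_zpowers_le [Finite G] [Fact p.Prime] {B : Subgroup G} {x : G}
    (hx : x ∈ normalizer (B : Set G)) (hxp : x ^ p ∈ B) :
    Nat.card ↥(B ⊔ zpowers x) ≤ p * Nat.card B := by
  have hp : 0 < p := (Fact.out : p.Prime).pos
  have hset : (↑(B ⊔ zpowers x) : Set G) = (B : Set G) * (zpowers x : Set G) :=
    Subgroup.coe_mul_of_right_le_normalizer_left B (zpowers x) (zpowers_le.2 hx)
  have hxpk : ∀ m : ℤ, x ^ ((p : ℤ) * m) ∈ B := fun m => by
    rw [zpow_mul, zpow_natCast]; exact zpow_mem hxp m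
  let f : B × Fin p → ↥(B ⊔ zpowers x) := fun q =>
    ⟨(q.1 : G) * x ^ (q.2 : ℕ), mul_mem (mem_sup_left q.1.2) (mem_sup_right (npow_mem_zpowers x _))⟩
  have hf : Function.Surjective f := by
    rintro ⟨z, hz⟩
    have hz' : z ∈ (B : Set G) * (zpowers x : Set G) := hset ▸ hz
    obtain ⟨b, hb, y, hy, rfl⟩ := Set.mem_mul.1 hz'
    obtain ⟨k, rfl⟩ := mem_zpowers_iff.1 (SetLike.mem_coe.1 hy)
    have hk0 : 0 ≤ k % (p : ℤ) := Int.emod_nonneg _ (by exact_mod_cast hp.ne')
    have hklt : k % (p : ℤ) < p := Int.emod_lt_of_pos _ (by exact_mod_cast hp)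
    refine ⟨(⟨b * x ^ ((p : ℤ) * (k / p)), B.mul_mem hb (hxpk _)⟩,
      ⟨(k % (p : ℤ)).toNat, by omega⟩), Subtype.ext ?_⟩
    change b * x ^ ((p : ℤ) * (k / p)) * x ^ (k % (p : ℤ)).toNat = b * x ^ k
    rw [mul_assoc, ← zpow_natCast, ← zpow_add, Int.toNat_of_nonneg hk0, Int.mul_ediv_add_emod]
  calc Nat.card ↥(B ⊔ zpowers x) ≤ Nat.card (B × Fin p) := Nat.card_le_card_of_surjective f hf
    _ = _ := by simp [Nat.card_prod, mul_comm]

/-- A cyclic group of prime order outside `B` meets it trivially. -/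
theorem inf_zpowers_eq_bot [Finite G] [Fact p.Prime] {B : Subgroup G} {a : G} (hap : a ^ p = 1)
    (ha : a ∉ B) : B ⊓ zpowers a = ⊥ := by
  have ha1 : a ≠ 1 := fun h => ha (h ▸ one_mem B)
  have hc : Nat.card (zpowers a) = p := by rw [Nat.card_zpowers, orderOf_eq_prime hap ha1]
  rcases (Nat.dvd_prime (Fact.out : p.Prime)).1 (hc ▸ card_dvd_of_le (inf_le_right : B ⊓ zpowers a ≤ _))
    with h | h
  · exact eq_bot_of_card_eq _ h
  · have := eq_of_le_of_card_ge (inf_le_right : B ⊓ zpowers a ≤ _) (by rw [h, hc])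
    have hm : a ∈ B ⊓ zpowers a := this.symm.le (mem_zpowers a)
    exact absurd hm.1 ha

/-- Adjoining an outside element of order `p` multiplies the order by exactly `p`. -/
theorem card_sup_zpowers [Finite G] [Fact p.Prime] {B : Subgroup G} {a : G}
    (hN : a ∈ normalizer (B : Set G)) (hap : a ^ p = 1) (ha : a ∉ B) :
    Nat.card ↥(B ⊔ zpowers a) = p * Nat.card B := by
  refine le_antisymm (card_sup_zpowers_le hN (hap ▸ one_mem B)) ?_
  have h := card_mul_card_le B (zpowers a)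
  rw [inf_zpowers_eq_bot hap ha, Subgroup.card_bot, mul_one, Nat.card_zpowers,
    orderOf_eq_prime hap (fun h => ha (h ▸ one_mem B)), mul_comm] at h
  exact h

end Cfsg.Agent.H34
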