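import Cfsg.Agent.H21.Wielandt
import Cfsg.Agent.H20.Basic
import Cfsg.Agent.H34.Stab

/-! Two subnormal subgroups acting irreducibly on incomparable commutator modules. -/

set_option autoImplicit false

namespace Cfsg.Agent.H34

open Subgroup
open Cfsg
open scoped commutatorElement Pointwise

variable {G : Type*} [Group G] {p : ℕ} {V H E E₁ E₂ : Subgroup G}

/-- `E` acts irreducibly on `[V, E]`, has no nontrivial normal `p`-subgroup and more than two elements. -/
structure IsIrrPart (p : ℕ) (V H E : Subgroup G) : Prop where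
  le : E ≤ H
  irr : ∀ U : Subgroup G, U ≤ ⁅V, E⁆ → E ≤ normalizer (U : Set G) → U = ⊥ ∨ U = ⁅V, E⁆
  core : ∀ X : Subgroup G, X ≤ E → E ≤ normalizer (X : Set G) → IsPGroup p X → X = ⊥
  big : 2 < Nat.card E

section

variable (hV : IsElementaryAbelian p V) (hHV : H ≤ normalizer (V : Set G))
  (hf : H ⊓ centralizer (V : Set G) = ⊥)
include hV hHV

/-- The commutator module lies in `V`. -/
theorem IsIrrPart.commutator_le (h : IsIrrPart p V H E) : ⁅V, E⁆ ≤ V :=
  le_normalizer_iff_commutator_le_left.1 (h.le.trans hHV)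

include hf

/-- The action on the commutator module is faithful. -/
theorem IsIrrPart.faithful (h : IsIrrPart p V H E) :
    E ⊓ centralizer ((⁅V, E⁆ : Subgroup G) : Set G) = ⊥ := by
  refine h.core _ inf_le_left (H20.le_normalizer_inf le_normalizer
    (H20.le_normalizer_centralizer (normalizer_commutator_ge_right V E))) ?_
  refine (isPGroup_stabilizerOfSeries hV (h.commutator_le hV hHV) hf).to_le fun x hx => ?_
  refine ⟨h.le hx.1, fun u hu => commutatorElement_eq_one_iff_mul_comm.2 (hx.2 u hu).symm,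
    fun v hv => ?_⟩
  rw [Subgroup.commutator_comm]
  exact commutator_mem_commutator hx.1 hv

/-- The commutator module is a proper module: `[V, E, E] = [V, E]`. -/
theorem IsIrrPart.commutator_commutator (h : IsIrrPart p V H E) : ⁅⁅V, E⁆, E⁆ = ⁅V, E⁆ := by
  refine (h.irr _ (le_normalizer_iff_commutator_le_left.1 (normalizer_commutator_ge_right V E))
    (normalizer_commutator_ge_right _ _)).resolve_left fun hbot => ?_
  have h1 := h.faithful hV hHV hf
  rw [inf_eq_left.2 (le_centralizer_iff.1 (Subgroup.commutator_eq_bot_iff_le_centralizer.1 hbot))] at h1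
  have := h.big
  rw [h1, Subgroup.card_bot] at this
  omega

omit hf in
/-- Conjugates of parts are parts. -/
theorem IsIrrPart.conj (h : IsIrrPart p V H E) {g : G} (hg : g ∈ H) :
    IsIrrPart p V H (MulAut.conj g • E) ∧ ⁅V, MulAut.conj g • E⁆ = MulAut.conj g • ⁅V, E⁆ := by
  have hVg : MulAut.conj g • V = V := H20.conj_smul_eq_of_mem_normalizer (hHV hg)
  have hcomm : ⁅V, MulAut.conj g • E⁆ = MulAut.conj g • ⁅V, E⁆ := by
    conv_lhs => rw [← hVg]
    exact (Subgroup.map_commutator V E (MulAut.conj g).toMonoidHom).symm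
  have hback : ∀ X : Subgroup G, MulAut.conj g⁻¹ • MulAut.conj g • X = X := fun X => by
    rw [← mul_smul, ← map_mul, inv_mul_cancel, map_one, one_smul]
  have hnorm : ∀ {X : Subgroup G}, MulAut.conj g • E ≤ normalizer (X : Set G) →
      E ≤ normalizer ((MulAut.conj g⁻¹ • X : Subgroup G) : Set G) := by
    intro X hX x hx
    refine H20.mem_normalizer_of_conj_smul_eq ?_
    have h1 := H20.conj_smul_eq_of_mem_normalizer (hX (smul_mem_pointwise_smul x (MulAut.conj g) E hx))
    rw [← mul_smul, ← map_mul]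
    conv_rhs => rw [← h1]
    rw [← mul_smul, ← map_mul]
    congr 2
    simp [mul_assoc]
  refine ⟨⟨?_, fun U hU hEU => ?_, fun X hX hEX hXp => ?_, ?_⟩, hcomm⟩
  · rintro _ ⟨x, hx, rfl⟩
    exact H.mul_mem (H.mul_mem hg (h.le hx)) (H.inv_mem hg)
  · rw [hcomm] at hU ⊢
    have h1 : MulAut.conj g⁻¹ • U ≤ ⁅V, E⁆ := by
      rw [← hback ⁅V, E⁆]; exact pointwise_smul_le_pointwise_smul_iff.2 hU
    rcases h.irr _ h1 (hnorm hEU) with h2 | h2
    · left
      have := congrArg (MulAut.conj g • ·) h2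
      simpa [← mul_smul] using this
    · right
      have := congrArg (MulAut.conj g • ·) h2
      simpa [← mul_smul] using this
  · have h1 : MulAut.conj g⁻¹ • X ≤ E := by
      rw [← hback E]; exact pointwise_smul_le_pointwise_smul_iff.2 hX
    have h2 := h.core _ h1 (hnorm hEX) (hXp.map _)
    have := congrArg (MulAut.conj g • ·) h2
    simpa [← mul_smul] using this
  · rw [show Nat.card ↥(MulAut.conj g • E) = Nat.card E from
      card_map_of_injective (MulAut.conj g).injective]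
    exact h.big

/-- If every element of `E₂` fixes the module of `E₁`, every element of `E₁` fixes that of `E₂`,
provided moved copies of the second module are centralised by `E₂`. -/
theorem IsIrrPart.not_moved (h₁ : IsIrrPart p V H E₁) (h₂ : IsIrrPart p V H E₂)
    (hfix : E₂ ≤ normalizer ((⁅V, E₁⁆ : Subgroup G) : Set G)) (h21 : ¬ ⁅V, E₂⁆ ≤ ⁅V, E₁⁆)
    {t : G} (ht : t ∈ E₁)
    (hmove : MulAut.conj t • ⁅V, E₂⁆ ≤ centralizer (E₂ : Set G)) : False := by
  haveI := hV.1
  refine h21 ?_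
  rw [← h₂.commutator_commutator hV hHV hf, Subgroup.commutator_le]
  intro w hw e he
  have hwV : w ∈ V := h₂.commutator_le hV hHV hw
  have htN : t ∈ normalizer (V : Set G) := hHV (h₁.le ht)
  have heN : e ∈ normalizer (V : Set G) := hHV (h₂.le he)
  set d := ⁅t, w⁆
  have hd : d ∈ ⁅V, E₁⁆ := by
    rw [Subgroup.commutator_comm]; exact commutator_mem_commutator ht hwV
  have hc : t * w * t⁻¹ ∈ centralizer (E₂ : Set G) :=
    hmove (smul_mem_pointwise_smul w (MulAut.conj t) _ hw)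
  have h1 : e * (d * w) * e⁻¹ = d * w := by
    have : d * w = t * w * t⁻¹ := by simp [d, commutatorElement_def]
    rw [this, hc e he, mul_inv_cancel_right]
  have h2 : ⁅e, w⁆ = (e * d * e⁻¹)⁻¹ * d := by
    have : e * w * e⁻¹ = (e * d * e⁻¹)⁻¹ * (d * w) := by
      conv_rhs => rw [← h1]
      simp [mul_assoc]
    rw [commutatorElement_def, this]
    simp [mul_assoc]
  rw [← commutatorElement_inv, h2]
  exact inv_mem (mul_mem (inv_mem (conj_mem_of_mem_normalizer (hfix he) hd)) hd)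

end

/-- Two subnormal irreducible parts with incomparable modules: the modules meet trivially and each
part centralises the other module. -/
theorem irreducible_pair [Finite G] (hV : IsElementaryAbelian p V) (hHV : H ≤ normalizer (V : Set G))
    (hf : H ⊓ centralizer (V : Set G) = ⊥) :
    ∀ (n : ℕ) (E E₁ E₂ : Subgroup G), Nat.card E = n → E ≤ H → E₁ ≤ E → E₂ ≤ E →
    (E₁.subgroupOf E).IsSubnormal → (E₂.subgroupOf E).IsSubnormal →
    IsIrrPart p V H E₁ → IsIrrPart p V H E₂ → ¬ ⁅V, E₁⁆ ≤ ⁅V, E₂⁆ → ¬ ⁅V, E₂⁆ ≤ ⁅V, E₁⁆ →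
    ⁅V, E₁⁆ ⊓ ⁅V, E₂⁆ = ⊥ ∧ ⁅V, E₁⁆ ≤ centralizer (E₂ : Set G) ∧
      ⁅V, E₂⁆ ≤ centralizer (E₁ : Set G) := by
  intro n
  induction n using Nat.strong_induction_on with
  | _ n ih =>
  intro E E₁ E₂ hn hEH hE₁ hE₂ hs₁ hs₂ h₁ h₂ h12 h21
  haveI := hV.1
  -- distinct conjugate modules
  have conjpair : ∀ (A B : Subgroup G), A ≤ E → B ≤ E → (A.subgroupOf E).IsSubnormal →
      IsIrrPart p V H A → ¬ ⁅V, B⁆ ≤ ⁅V, A⁆ → ∀ g ∈ B, MulAut.conj g • ⁅V, A⁆ ≠ ⁅V, A⁆ →
      ⁅V, A⁆ ⊓ (MulAut.conj g • ⁅V, A⁆) = ⊥ ∧ MulAut.conj g • ⁅V, A⁆ ≤ centralizer (A : Set G) ∧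
        ⁅V, A⁆ ≤ centralizer ((MulAut.conj g • A : Subgroup G) : Set G) := by
    intro A B hA hB hsA hIA hBA g hg hne
    have hAne : A.subgroupOf E ≠ ⊤ := fun h =>
      hBA (commutator_mono le_rfl (hB.trans (subgroupOf_eq_top.1 h)))
    obtain ⟨N, hNn, hAN, hNlt⟩ := hsA.exists_normal_and_le_and_lt_top_of_ne hAne
    set N' := N.map E.subtype
    have hN'E : N' ≤ E := map_subtype_le N
    have hAN' : A ≤ N' := by
      intro x hx
      exact ⟨⟨x, hA hx⟩, hAN hx, rfl⟩
    have hgE : g ∈ E := hB hg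
    have hAg : MulAut.conj g • A ≤ N' := by
      rintro _ ⟨x, hx, rfl⟩
      exact ⟨_, hNn.conj_mem ⟨x, hA hx⟩ (hAN hx) ⟨g, hgE⟩, rfl⟩
    obtain ⟨hIg, hcomm⟩ := hIA.conj hV hHV (hEH hgE)
    have hlt : Nat.card N' < n := by
      rw [← hn, show Nat.card N' = Nat.card N from card_map_of_injective E.subtype_injective]
      exact lt_of_le_of_ne (card_le_card_group N) fun h => hNlt.ne (eq_top_of_card_eq N h)
    have hsA' : (A.subgroupOf N').IsSubnormal := H21.isSubnormal_subgroupOf_of_le hAN' hN'E hsA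
    have hsAg : ((MulAut.conj g • A).subgroupOf N').IsSubnormal := by
      refine H21.isSubnormal_subgroupOf_of_le hAg hN'E ?_
      have : (MulAut.conj g • A).subgroupOf E = MulAut.conj (⟨g, hgE⟩ : E) • A.subgroupOf E := by
        ext ⟨x, hx⟩
        rw [mem_subgroupOf, mem_pointwise_smul_iff_inv_smul_mem, mem_pointwise_smul_iff_inv_smul_mem,
          mem_subgroupOf]
        simp [MulAut.smul_def]
      rw [this]
      exact hsA.map (f := (MulAut.conj (⟨g, hgE⟩ : E)).toMonoidHom) (MulEquiv.surjective _)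
    have hincomp : ¬ ⁅V, A⁆ ≤ ⁅V, MulAut.conj g • A⁆ ∧ ¬ ⁅V, MulAut.conj g • A⁆ ≤ ⁅V, A⁆ := by
      rw [hcomm]
      have hc : Nat.card ↥(MulAut.conj g • ⁅V, A⁆) = Nat.card ↥⁅V, A⁆ :=
        card_map_of_injective (MulAut.conj g).injective
      exact ⟨fun h => hne (eq_of_le_of_card_ge h hc.le).symm, fun h => hne (eq_of_le_of_card_ge h hc.ge)⟩
    obtain ⟨r1, r2, r3⟩ := ih _ hlt N' A _ rfl (hN'E.trans hEH) hAN' hAg hsA' hsAg hIA hIg hincomp.1 hincomp.2
    rw [hcomm] at r1 r3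
    exact ⟨r1, r3, r2⟩
  -- the second part cannot be moved while fixing the first
  have nomove : ∀ (A B : Subgroup G), A ≤ E → B ≤ E → (B.subgroupOf E).IsSubnormal →
      IsIrrPart p V H A → IsIrrPart p V H B → ¬ ⁅V, A⁆ ≤ ⁅V, B⁆ → ¬ ⁅V, B⁆ ≤ ⁅V, A⁆ →
      B ≤ normalizer ((⁅V, A⁆ : Subgroup G) : Set G) → A ≤ normalizer ((⁅V, B⁆ : Subgroup G) : Set G) := by
    intro A B hA hB hsB hIA hIB hAB hBA hfix t ht
    by_contra hmove
    have hne : MulAut.conj t • ⁅V, B⁆ ≠ ⁅V, B⁆ := fun h =>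
      hmove (H20.mem_normalizer_of_conj_smul_eq h)
    exact hIA.not_moved hV hHV hf hIB hfix hBA ht (conjpair B A hB hA hsB hIB hAB t ht hne).2.1
  by_cases hfixes : E₂ ≤ normalizer ((⁅V, E₁⁆ : Subgroup G) : Set G)
  · have hfix' := nomove E₁ E₂ hE₁ hE₂ hs₂ h₁ h₂ h12 h21 hfixes
    have hW : ⁅V, E₁⁆ ⊓ ⁅V, E₂⁆ = ⊥ :=
      (h₁.irr _ inf_le_left (H20.le_normalizer_inf (normalizer_commutator_ge_right _ _) hfix')).resolve_right
        fun h => h12 (inf_eq_left.1 h)
    refine ⟨hW, ?_, ?_⟩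
    · rw [← Subgroup.commutator_eq_bot_iff_le_centralizer, eq_bot_iff, ← hW]
      exact le_inf (le_normalizer_iff_commutator_le_left.1 hfixes)
        (commutator_mono (h₁.commutator_le hV hHV) le_rfl)
    · rw [← Subgroup.commutator_eq_bot_iff_le_centralizer, eq_bot_iff, ← hW]
      exact le_inf (commutator_mono (h₂.commutator_le hV hHV) le_rfl)
        (le_normalizer_iff_commutator_le_left.1 hfix')
  · exfalso
    obtain ⟨e, he, hemove⟩ := SetLike.not_le_iff_exists.1 hfixes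
    set W₁ := ⁅V, E₁⁆ with hW₁
    set W₂ := ⁅V, E₂⁆ with hW₂
    have hW₁V : W₁ ≤ V := h₁.commutator_le hV hHV
    have hne : MulAut.conj e • W₁ ≠ W₁ := fun h => hemove (H20.mem_normalizer_of_conj_smul_eq h)
    obtain ⟨hdisj, hcent, -⟩ := conjpair E₁ E₂ hE₁ hE₂ hs₁ h₁ h21 e he hne
    have hE₁W₁ : E₁ ≤ normalizer (W₁ : Set G) := normalizer_commutator_ge_right V E₁
    by_cases hall : E₁ ≤ normalizer (W₂ : Set G)
    · exact hfixes (nomove E₂ E₁ hE₂ hE₁ hs₁ h₂ h₁ h21 h12 hall)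
    have key : ∀ t ∈ E₁, t ∉ normalizer (W₂ : Set G) → ∀ v ∈ W₁, t * v * t⁻¹ = v⁻¹ := by
      intro t ht htmove
      have hne₂ : MulAut.conj t • W₂ ≠ W₂ := fun h => htmove (H20.mem_normalizer_of_conj_smul_eq h)
      obtain ⟨-, hcent₂, -⟩ := conjpair E₂ E₁ hE₂ hE₁ hs₂ h₂ h12 t ht hne₂
      have main : ∀ v ∈ W₁, ∃ X ∈ MulAut.conj e • MulAut.conj e • W₁, ∃ Y ∈ MulAut.conj e • W₁,
          Y = e * (t * v * t⁻¹) * e⁻¹ * (e * v * e⁻¹) ∧ X = Y * (t * v * t⁻¹)⁻¹ := by
        intro v hv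
        set vt := t * v * t⁻¹ with hvt
        have hvtW : vt ∈ W₁ := conj_mem_of_mem_normalizer (hE₁W₁ ht) hv
        set u := e * v * e⁻¹ with hu
        have huW : u ∈ MulAut.conj e • W₁ := smul_mem_pointwise_smul v (MulAut.conj e) _ hv
        have heW : ∀ x ∈ W₁, e * x * e⁻¹ ∈ V := fun x hx =>
          conj_mem_of_mem_normalizer (hHV (h₂.le he)) (hW₁V hx)
        have hw : u * v⁻¹ ∈ W₂ := by
          rw [hW₂, Subgroup.commutator_comm]
          exact commutator_mem_commutator he (hW₁V hv)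
        have hfixu : t * u * t⁻¹ = u := by rw [hcent huW t ht, mul_inv_cancel_right]
        have h1 : t * (u * v⁻¹) * t⁻¹ ∈ centralizer (E₂ : Set G) :=
          hcent₂ (smul_mem_pointwise_smul _ (MulAut.conj t) _ hw)
        have h2 : t * (u * v⁻¹) * t⁻¹ = u * vt⁻¹ := by
          calc t * (u * v⁻¹) * t⁻¹ = (t * u * t⁻¹) * vt⁻¹ := by simp [hvt, mul_assoc]
            _ = _ := by rw [hfixu]
        rw [h2] at h1
        have h3 : e * (u * vt⁻¹) * e⁻¹ = u * vt⁻¹ := by rw [h1 e he, mul_inv_cancel_right]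
        refine ⟨e * u * e⁻¹, smul_mem_pointwise_smul u (MulAut.conj e) _ huW,
          e * vt * e⁻¹ * u, mul_mem (smul_mem_pointwise_smul vt (MulAut.conj e) _ hvtW) huW, rfl, ?_⟩
        have hcomm : (e * vt * e⁻¹) * (u * vt⁻¹) = (u * vt⁻¹) * (e * vt * e⁻¹) :=
          setLike_mul_comm (s := V) (heW _ hvtW) (V.mul_mem (heW _ hv) (V.inv_mem (hW₁V hvtW)))
        calc e * u * e⁻¹ = (e * (u * vt⁻¹) * e⁻¹) * (e * vt * e⁻¹) := by simp [mul_assoc]
          _ = (u * vt⁻¹) * (e * vt * e⁻¹) := by rw [h3]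
          _ = _ := by rw [← hcomm]; simp [mul_assoc]
      have hsq : MulAut.conj e • MulAut.conj e • W₁ = W₁ := by
        by_contra hne2
        rw [← mul_smul, ← map_mul] at hne2
        obtain ⟨-, hcent', -⟩ := conjpair E₁ E₂ hE₁ hE₂ hs₁ h₁ h21 (e * e) (mul_mem he he) hne2
        have hfixW : W₁ ≤ centralizer (E₁ : Set G) := by
          intro w hw
          have hv : t⁻¹ * w * t ∈ W₁ := (mem_normalizer_iff''.1 (hE₁W₁ ht) w).1 hw
          obtain ⟨X, hX, Y, hY, -, hXY⟩ := main _ hv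
          rw [← mul_smul, ← map_mul] at hX
          have hXc := hcent' hX
          have hYc := hcent hY
          have : w = X⁻¹ * Y := by
            rw [hXY]
            simp [mul_assoc]
          rw [this]
          exact mul_mem (inv_mem hXc) hYc
        have h := h₁.faithful hV hHV hf
        rw [← hW₁, inf_eq_left.2 (le_centralizer_iff.1 hfixW)] at h
        have := h₁.big
        rw [h, Subgroup.card_bot] at this
        omega
      intro v hv
      obtain ⟨X, hX, Y, hY, hYe, hXY⟩ := main v hv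
      rw [hsq] at hX
      have hY1 : Y = 1 := by
        rw [← mem_bot, ← hdisj]
        refine ⟨?_, hY⟩
        have : Y = X * (t * v * t⁻¹) := by rw [hXY, inv_mul_cancel_right]
        rw [this]
        exact mul_mem hX (conj_mem_of_mem_normalizer (hE₁W₁ ht) hv)
      rw [hY1] at hYe
      have h4 : e * (t * v * t⁻¹ * v) * e⁻¹ = 1 := by
        rw [hYe]; simp [mul_assoc]
      exact eq_inv_of_mul_eq_one_left (conj_eq_one_iff.1 h4)
    obtain ⟨t, ht, htmove⟩ := SetLike.not_le_iff_exists.1 hall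
    have huniq : ∀ t' ∈ E₁, t' ∉ normalizer (W₂ : Set G) → t' = t := by
      intro t' ht' ht'm
      have hk : t⁻¹ * t' ∈ E₁ ⊓ centralizer (W₁ : Set G) := by
        refine ⟨E₁.mul_mem (E₁.inv_mem ht) ht', fun v hv => ?_⟩
        have a := key t ht htmove v hv
        have b := key t' ht' ht'm v hv
        rw [← a] at b
        calc v * (t⁻¹ * t') = t⁻¹ * (t * v * t⁻¹) * t' := by simp [mul_assoc]
          _ = t⁻¹ * (t' * v * t'⁻¹) * t' := by rw [b]
          _ = _ := by simp [mul_assoc]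
      rw [h₁.faithful hV hHV hf, mem_bot] at hk
      exact (inv_mul_eq_one.1 hk).symm
    have hsub : ∀ x ∈ E₁, x = 1 ∨ x = t := by
      intro x hx
      by_cases hxn : x ∈ normalizer (W₂ : Set G)
      · left
        have := huniq (t * x) (mul_mem ht hx) fun h => htmove (by simpa using mul_mem h (inv_mem hxn))
        simpa using this
      · exact Or.inr (huniq x hx hxn)
    have hcard : Nat.card E₁ ≤ 2 := by
      have hset : (E₁ : Set G) ⊆ {1, t} := fun x hx => hsub x hx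
      calc Nat.card E₁ = (E₁ : Set G).ncard := (Nat.card_coe_set_eq _)
        _ ≤ ({1, t} : Set G).ncard := Set.ncard_le_ncard hset
        _ ≤ 2 := (Set.ncard_insert_le _ _).trans (by simp)
    exact absurd h₁.big (Nat.not_lt.2 hcard)

end Cfsg.Agent.H34
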