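import Cfsg.Agent.H34.SL2

/-! Elements of order prime to `p` in `SL(2,2)` and `SL(2,3)`. -/

set_option autoImplicit false

namespace Cfsg.Agent.H34.SL2

open Matrix

/-- In `SL(2,2)` an element with `g^3 = 1` fixing no line. -/
theorem exists_fpf_two : ∃ g : SpecialLinearGroup (Fin 2) (ZMod 2), g ^ 3 = 1 ∧
    ∀ (v : Fin 2 → ZMod 2) (c : ZMod 2), mulVec (g : Matrix (Fin 2) (Fin 2) (ZMod 2)) v = c • v → v = 0 := by
  refine ⟨⟨!![0, 1; 1, 1], by decide⟩, by decide +kernel, ?_⟩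
  decide +kernel

/-- In `SL(2,3)` an element with `g^4 = 1` fixing no line. -/
theorem exists_fpf_three : ∃ g : SpecialLinearGroup (Fin 2) (ZMod 3), g ^ 4 = 1 ∧
    ∀ (v : Fin 2 → ZMod 3) (c : ZMod 3), mulVec (g : Matrix (Fin 2) (Fin 2) (ZMod 3)) v = c • v → v = 0 := by
  refine ⟨⟨!![0, -1; 1, 0], by decide⟩, by decide +kernel, ?_⟩
  decide +kernel

/-- In `SL(2,3)` there are noncommuting elements with fourth power one. -/
theorem exists_noncomm_three : ∃ g h : SpecialLinearGroup (Fin 2) (ZMod 3),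
    g ^ 4 = 1 ∧ h ^ 4 = 1 ∧ g * h ≠ h * g := by
  refine ⟨⟨!![0, -1; 1, 0], by decide⟩, ⟨!![1, 1; 1, -1], by decide⟩, by decide +kernel,
    by decide +kernel, by decide +kernel⟩

end Cfsg.Agent.H34.SL2
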