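import Cfsg.Agent.H34.Pair
import Cfsg.Agent.H34.SL2Small
import Cfsg.Agent.H34.IrreduciblePair
import Cfsg.Agent.H20.Sylow

/-! The `SL(2,p)` component attached to a transvection group. -/

set_option autoImplicit false

namespace Cfsg.Agent.H34

open Subgroup
open Cfsg
open scoped commutatorElement Pointwise

variable {G : Type*} [Group G] [Finite G] {p : ℕ} [Fact p.Prime] {V H A X : Subgroup G}

/-- Subgroups of a finite `p`-group are subnormal. -/
theorem isSubnormal_of_isPGroup {Γ : Type*} [Group Γ] [Finite Γ] {r : ℕ} [Fact r.Prime]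
    (hΓ : IsPGroup r Γ) (U : Subgroup Γ) : U.IsSubnormal := by
  haveI : Group.IsNilpotent Γ := hΓ.isNilpotent
  induction U using WellFoundedGT.induction with
  | ind U ih =>
    rcases eq_or_ne U ⊤ with rfl | hne
    · exact Subgroup.IsSubnormal.top
    · exact Subgroup.IsSubnormal.step U _ le_normalizer
        (ih _ (Group.normalizerCondition_of_isNilpotent U (lt_top_iff_ne_top.2 hne)))
        normal_in_normalizer

/-- Subgroups of a `p`-subgroup are subnormal in it. -/
theorem isSubnormal_subgroupOf_of_isPGroup {r : ℕ} [Fact r.Prime] {R U : Subgroup G}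
    (hR : IsPGroup r R) : (U.subgroupOf R).IsSubnormal :=
  isSubnormal_of_isPGroup hR _

/-- A subgroup of order prime to `p` is recovered from its product with a normalising group of order `p`. -/
theorem sup_inf_eq_of_coprime {K : Subgroup G} (hXK : X ≤ K) (hK : (Nat.card K).Coprime p)
    (hA : Nat.card A = p) (hAX : A ≤ normalizer (X : Set G)) : (X ⊔ A) ⊓ K = X := by
  refine (eq_of_le_of_card_ge (le_inf le_sup_left hXK) ?_).symm
  have hc : Nat.card ↥(X ⊔ A) = Nat.card X * p := by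
    rw [H20.card_sup_of_coprime hAX (by rw [hA]; exact (hK.coprime_dvd_left (card_dvd_of_le hXK)).symm), hA]
  have h2 : (Nat.card ↥((X ⊔ A) ⊓ K)).Coprime p := hK.coprime_dvd_left (card_dvd_of_le inf_le_right)
  exact Nat.le_of_dvd Nat.card_pos (h2.dvd_of_dvd_mul_right (hc ▸ card_dvd_of_le inf_le_left))

/-- The elements normalising `W` and moving `V` only inside `W`. -/
def movesInto (V W : Subgroup G) : Subgroup G where
  carrier := {x | x ∈ normalizer (W : Set G) ∧ ∀ v ∈ V, ⁅x, v⁆ ∈ W}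
  one_mem' := ⟨one_mem _, by simp⟩
  mul_mem' := by
    rintro a b ⟨ha, ha'⟩ ⟨hb, hb'⟩
    refine ⟨mul_mem ha hb, fun v hv => ?_⟩
    rw [comm_mul_left]
    exact W.mul_mem (conj_mem_of_mem_normalizer ha (hb' v hv)) (ha' v hv)
  inv_mem' := by
    rintro a ⟨ha, ha'⟩
    refine ⟨inv_mem ha, fun v hv => ?_⟩
    rw [commutatorElement_inv_left, ← commutatorElement_inv]
    exact (mem_normalizer_iff''.1 ha _).1 (W.inv_mem (ha' v hv))

namespace FFSetup

variable (S : FFSetup p V H)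
include S

/-- Conjugates of transvection groups by elements of `H`. -/
theorem isTransvectionGroup_conj (hA : IsTransvectionGroup p V H A) {g : G} (hg : g ∈ H) :
    IsTransvectionGroup p V H (MulAut.conj g • A) := by
  obtain ⟨hAH, hcard, hfix⟩ := hA
  refine ⟨?_, (card_map_of_injective (MulAut.conj g).injective).trans hcard, ?_⟩
  · rintro _ ⟨x, hx, rfl⟩
    exact H.mul_mem (H.mul_mem hg (hAH hx)) (H.inv_mem hg)
  · have h : V ⊓ centralizer ((MulAut.conj g • A : Subgroup G) : Set G) =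
        (V ⊓ centralizer (A : Set G)).map (MulAut.conj g).toMonoidHom := by
      rw [Subgroup.map_inf _ _ _ (MulAut.conj g).injective, map_centralizer]
      congr 1
      exact (H20.conj_smul_eq_of_mem_normalizer (S.norm hg)).symm
    rw [h, card_map_of_injective (MulAut.conj g).injective, hfix]

/-- A transvection group is moved by some element of the core. -/
theorem exists_moving (hA : IsTransvectionGroup p V H A) :
    ∃ x ∈ coreOf p H, x ∉ centralizer (A : Set G) :=
  SetLike.not_le_iff_exists.1 fun h => hA.ne_bot (S.eq_bot_of_centralizes hA.1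
    (IsPGroup.of_card (n := 1) (by rw [pow_one, hA.2.1]))
    (Subgroup.commutator_eq_bot_iff_le_centralizer.2 h))

variable (hA : IsTransvectionGroup p V H A)
include hA

/-- The operator group normalises the commutator with the core. -/
theorem le_normalizer_commutator_core :
    A ≤ normalizer ((⁅coreOf p H, A⁆ : Subgroup G) : Set G) ∧
      coreOf p H ≤ normalizer ((⁅coreOf p H, A⁆ : Subgroup G) : Set G) ∧
      ⁅coreOf p H, A⁆ ≤ coreOf p H :=
  ⟨normalizer_commutator_ge_right _ _, normalizer_commutator_ge_left _ _,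
    le_normalizer_iff_commutator_le_left.1 (hA.1.trans le_normalizer_coreOf)⟩

/-- The pair generated by a moving conjugate. -/
theorem pair_core {x : G} (hx : x ∈ coreOf p H) (hxA : x ∉ centralizer (A : Set G)) :
    ¬ IsPGroup p ↥(A ⊔ MulAut.conj x • A) ∧
      A ⊔ MulAut.conj x • A ≤ ⁅coreOf p H, A⁆ ⊔ A ∧
      A ⊔ MulAut.conj x • A = ((A ⊔ MulAut.conj x • A) ⊓ coreOf p H) ⊔ A ∧
      Nat.card ↥((A ⊔ MulAut.conj x • A) ⊓ coreOf p H) * p = Nat.card ↥(A ⊔ MulAut.conj x • A) ∧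
      (A ⊔ MulAut.conj x • A) ⊓ coreOf p H ≤ ⁅coreOf p H, A⁆ := by
  obtain ⟨hAQ, -, hQK⟩ := S.le_normalizer_commutator_core hA
  set K := coreOf p H
  set Q := ⁅K, A⁆
  set H₀ := A ⊔ MulAut.conj x • A
  have hKcop : (Nat.card K).Coprime p := coreOf_coprime
  have hle : H₀ ≤ Q ⊔ A := by
    refine sup_le le_sup_right ?_
    rintro _ ⟨a, ha, rfl⟩
    have : x * a * x⁻¹ = ⁅x, a⁆ * a := by simp [commutatorElement_def]
    change x * a * x⁻¹ ∈ Q ⊔ A
    rw [this]
    exact mul_mem (mem_sup_left (commutator_mem_commutator hx ha)) (mem_sup_right ha)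
  have hcopA : (Nat.card A).Coprime (Nat.card Q) := by
    rw [hA.2.1]; exact (hKcop.coprime_dvd_left (card_dvd_of_le hQK)).symm
  have hcardQA : Nat.card ↥(Q ⊔ A) = Nat.card Q * p := by
    rw [H20.card_sup_of_coprime hAQ hcopA, hA.2.1]
  have hnp : ¬ IsPGroup p ↥H₀ := by
    intro hp
    obtain ⟨k, hk⟩ := IsPGroup.iff_card.1 hp
    have hd : Nat.card H₀ ∣ p := by
      have h1 : Nat.card H₀ ∣ Nat.card Q * p := hcardQA ▸ card_dvd_of_le hle
      have h2 : (Nat.card H₀).Coprime (Nat.card Q) := by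
        rw [hk]; exact (hKcop.coprime_dvd_left (card_dvd_of_le hQK)).symm.pow_left k
      exact h2.dvd_of_dvd_mul_left h1
    have heq : A = H₀ := eq_of_le_of_card_ge le_sup_left
      (by rw [hA.2.1]; exact Nat.le_of_dvd (Fact.out : p.Prime).pos hd)
    refine hxA fun a ha => ?_
    have hc : ⁅x, a⁆ ∈ A ⊓ K := by
      refine ⟨?_, hQK (commutator_mem_commutator hx ha)⟩
      rw [commutatorElement_def]
      exact A.mul_mem (heq.ge (mem_sup_right (smul_mem_pointwise_smul a (MulAut.conj x) A ha)))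
        (A.inv_mem ha)
    rw [H19.inf_eq_bot_of_isPGroup_coprime (IsPGroup.of_card (n := 1) (by rw [pow_one, hA.2.1]))
      hKcop, mem_bot] at hc
    exact (commutatorElement_eq_one_iff_mul_comm.1 hc).symm
  have hQ0 : H₀ ⊓ K ≤ Q := by
    refine le_trans (inf_le_inf_right _ hle) (le_of_eq ?_)
    exact sup_inf_eq_of_coprime hQK hKcop hA.2.1 hAQ
  have hAH₀ : A ≤ normalizer ((H₀ ⊓ K : Subgroup G) : Set G) :=
    H20.le_normalizer_inf (le_sup_left.trans le_normalizer) (hA.1.trans le_normalizer_coreOf)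
  have hcard0 : Nat.card ↥((H₀ ⊓ K) ⊔ A) = Nat.card ↥(H₀ ⊓ K) * p := by
    rw [H20.card_sup_of_coprime hAH₀ (by
      rw [hA.2.1]; exact (hKcop.coprime_dvd_left (card_dvd_of_le inf_le_right)).symm), hA.2.1]
  have heq : H₀ = (H₀ ⊓ K) ⊔ A := by
    refine (eq_of_le_of_card_ge (sup_le inf_le_left le_sup_left) ?_).symm
    rw [hcard0]
    have h1 : Nat.card H₀ = Nat.card ↥(H₀ ⊓ K) * (H₀ ⊓ K).relIndex H₀ := by
      rw [← relIndex_bot_left, ← relIndex_bot_left, relIndex_mul_relIndex _ _ _ bot_le inf_le_left]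
    rw [h1]
    refine Nat.mul_le_mul_left _ ?_
    have hcK : Nat.card ↥(K ⊔ A) = Nat.card K * p := by
      rw [H20.card_sup_of_coprime (hA.1.trans le_normalizer_coreOf) (by rw [hA.2.1]; exact hKcop.symm),
        hA.2.1]
    have h2 : K.relIndex (K ⊔ A) = p := by
      have : Nat.card ↥(K ⊔ A) = Nat.card K * K.relIndex (K ⊔ A) := by
        rw [← relIndex_bot_left, ← relIndex_bot_left, relIndex_mul_relIndex _ _ _ bot_le le_sup_left]
      rw [hcK] at this
      exact (Nat.eq_of_mul_eq_mul_left Nat.card_pos this).symm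
    rw [inf_comm, inf_relIndex_right, ← h2]
    exact relIndex_le_of_le_right (hle.trans (sup_le_sup_right hQK A))
      (by rw [h2]; exact (Fact.out : p.Prime).ne_zero)
  exact ⟨hnp, hle, heq, by rw [← hcard0, ← heq], hQ0⟩

/-- `p` is `2` or `3`, and the core part of the pair has order `3` or `8`. -/
theorem prime_two_or_three {x : G} (hx : x ∈ coreOf p H) (hxA : x ∉ centralizer (A : Set G)) :
    (p = 2 ∧ Nat.card ↥((A ⊔ MulAut.conj x • A) ⊓ coreOf p H) = 3) ∨
      (p = 3 ∧ Nat.card ↥((A ⊔ MulAut.conj x • A) ⊓ coreOf p H) = 8) := by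
  obtain ⟨hnp, -, -, hcard, -⟩ := S.pair_core hA hx hxA
  obtain ⟨-, -, -, -, -, -, e, -⟩ := S.pair hA (S.isTransvectionGroup_conj hA (coreOf_le hx)) hnp
  set H₀ := A ⊔ MulAut.conj x • A
  have hp := (Fact.out : p.Prime)
  rw [Nat.card_congr e.toEquiv] at hcard
  by_cases h5 : 5 ≤ p
  · exfalso
    have hn : ((H₀ ⊓ coreOf p H).subgroupOf H₀).Normal := by
      rw [inf_comm, inf_subgroupOf_right]
      have hH : H₀ ≤ normalizer ((coreOf p H : Subgroup G) : Set G) :=
        sup_le (hA.1.trans le_normalizer_coreOf)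
          ((S.isTransvectionGroup_conj hA (coreOf_le hx)).1.trans le_normalizer_coreOf)
      refine ⟨fun n hn g => ?_⟩
      exact mem_subgroupOf.2 (conj_mem_of_mem_normalizer (hH g.2) (mem_subgroupOf.1 hn))
    set N := (H₀ ⊓ coreOf p H).subgroupOf H₀
    haveI : IsCyclic (H₀ ⧸ N) := by
      refine isCyclic_of_prime_card (p := p) ?_
      have h1 := N.card_mul_index
      rw [Nat.card_congr (subgroupOfEquivOfLe (inf_le_left : H₀ ⊓ coreOf p H ≤ H₀)).toEquiv,
        Nat.card_congr e.toEquiv, ← hcard] at h1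
      exact Nat.eq_of_mul_eq_mul_left Nat.card_pos h1
    have htriv := SL2.hom_trivial p (fun a b => mul_comm' a b) h5
      ((QuotientGroup.mk' N).comp e.symm.toMonoidHom)
    have hN : N = ⊤ := top_unique fun g _ => by
      have h := htriv (e g)
      rw [MonoidHom.comp_apply, MulEquiv.coe_toMonoidHom, MulEquiv.symm_apply_apply] at h
      exact (QuotientGroup.eq_one_iff g).1 h
    have h3 : Nat.card ↥(H₀ ⊓ coreOf p H) = Nat.card H₀ := by
      rw [← Nat.card_congr (subgroupOfEquivOfLe (inf_le_left : H₀ ⊓ coreOf p H ≤ H₀)).toEquiv]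
      change Nat.card N = _
      rw [hN, card_top]
    rw [← Nat.card_congr e.toEquiv, ← h3] at hcard
    have := Nat.eq_of_mul_eq_mul_left Nat.card_pos (hcard.trans (mul_one _).symm)
    omega
  · have h2 := hp.two_le
    interval_cases p
    · left; refine ⟨rfl, ?_⟩; rw [SL2.card_sl_two_two] at hcard; omega
    · right; refine ⟨rfl, ?_⟩; rw [SL2.card_sl_two_three] at hcard; omega
    · exact absurd hp (by decide)

/-- The prime of the component's core. -/
theorem exists_core_prime :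
    ∃ r : ℕ, r.Prime ∧ ((p = 2 ∧ r = 3) ∨ (p = 3 ∧ r = 2)) ∧ IsPGroup r ↥⁅coreOf p H, A⁆ := by
  obtain ⟨x, hx, hxA⟩ := S.exists_moving hA
  obtain ⟨hAQ, hKQ, hQK⟩ := S.le_normalizer_commutator_core hA
  set K := coreOf p H
  have hp := (Fact.out : p.Prime)
  obtain ⟨r, hr, hpr, hsize⟩ : ∃ r : ℕ, r.Prime ∧ ((p = 2 ∧ r = 3) ∨ (p = 3 ∧ r = 2)) ∧
      ∀ y ∈ K, y ∉ centralizer (A : Set G) →
        ∃ n, 0 < n ∧ Nat.card ↥((A ⊔ MulAut.conj y • A) ⊓ K) = r ^ n := by
    rcases S.prime_two_or_three hA hx hxA with ⟨h, -⟩ | ⟨h, -⟩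
    · refine ⟨3, Nat.prime_three, Or.inl ⟨h, rfl⟩, fun y hy hyA => ?_⟩
      rcases S.prime_two_or_three hA hy hyA with ⟨-, h'⟩ | ⟨h'', -⟩
      · exact ⟨1, one_pos, h'⟩
      · omega
    · refine ⟨2, Nat.prime_two, Or.inr ⟨h, rfl⟩, fun y hy hyA => ?_⟩
      rcases S.prime_two_or_three hA hy hyA with ⟨h'', -⟩ | ⟨-, h'⟩
      · omega
      · exact ⟨3, by norm_num, h'⟩
  refine ⟨r, hr, hpr, ?_⟩
  haveI := Fact.mk hr
  have hAK : A ≤ normalizer (K : Set G) := hA.1.trans le_normalizer_coreOf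
  have hcop : (Nat.card A).Coprime (Nat.card K) := by rw [hA.2.1]; exact coreOf_coprime.symm
  have hAs : Group.IsSolvable A ∨ Group.IsSolvable K :=
    Or.inl (H20.isSolvable_of_isPGroup (p := p) (IsPGroup.of_card (n := 1) (by rw [pow_one, hA.2.1])))
  set C := K ⊓ centralizer (A : Set G)
  have hidx : ∀ q : ℕ, q.Prime → q ∣ C.relIndex K → q = r := by
    intro q hq hdvd
    by_contra hne
    haveI := Fact.mk hq
    obtain ⟨R, hRK, hAR, hRp, hRc⟩ := H20.exists_invariant_sylow_subgroup hAK hcop hAs q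
    have hRC : R ≤ C := by
      refine le_inf hRK fun y hy => ?_
      by_contra hyA
      obtain ⟨n, hn0, hn⟩ := hsize y (hRK hy) hyA
      have hle : (A ⊔ MulAut.conj y • A) ⊓ K ≤ R := by
        refine le_trans (inf_le_inf_right _ ?_)
          (sup_inf_eq_of_coprime (A := A) hRK coreOf_coprime hA.2.1 hAR).le
        refine sup_le le_sup_right ?_
        rintro _ ⟨a, ha, rfl⟩
        exact mul_mem (mul_mem (mem_sup_left hy) (mem_sup_right ha)) (inv_mem (mem_sup_left hy))
      obtain ⟨m, hm⟩ := IsPGroup.iff_card.1 (hRp.to_le hle)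
      rw [hn] at hm
      have h1 : r ∣ q ^ m := hm ▸ dvd_pow_self r hn0.ne'
      exact hne ((Nat.prime_dvd_prime_iff_eq hr hq).1 (hr.dvd_of_dvd_pow h1)).symm
    have hmul : Nat.card C * C.relIndex K = Nat.card K := by
      rw [← relIndex_bot_left, ← relIndex_bot_left, relIndex_mul_relIndex _ _ _ bot_le inf_le_left]
    have h1 : q ^ ((Nat.card K).factorization q + 1) ∣ Nat.card K := by
      rw [pow_succ, ← hmul]
      exact mul_dvd_mul (by rw [hmul, ← hRc]; exact card_dvd_of_le hRC) hdvd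
    exact Nat.pow_succ_factorization_not_dvd Nat.card_pos.ne' hq h1
  obtain ⟨i, hi⟩ : ∃ i, C.relIndex K = r ^ i := by
    refine ⟨_, Nat.eq_prime_pow_of_unique_prime_dvd ?_ fun {d} hd hdd => hidx d hd hdd⟩
    intro h
    have : Nat.card C * C.relIndex K = Nat.card K := by
      rw [← relIndex_bot_left, ← relIndex_bot_left, relIndex_mul_relIndex _ _ _ bot_le inf_le_left]
    rw [h, mul_zero] at this
    exact Nat.card_pos.ne' this.symm
  obtain ⟨R, hRK, hAR, hRp, hRc⟩ := H20.exists_invariant_sylow_subgroup hAK hcop hAs r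
  have hKR : ∀ k ∈ K, ∃ y ∈ R, ∃ c ∈ C, k = y * c := by
    have hmul : Nat.card C * C.relIndex K = Nat.card K := by
      rw [← relIndex_bot_left, ← relIndex_bot_left, relIndex_mul_relIndex _ _ _ bot_le inf_le_left]
    have hmulR : Nat.card ↥(C ⊓ R) * C.relIndex R = Nat.card R := by
      rw [← inf_relIndex_right C R, ← relIndex_bot_left, ← relIndex_bot_left,
        relIndex_mul_relIndex _ _ _ bot_le inf_le_right]
    obtain ⟨j, hj⟩ := IsPGroup.iff_card.1 (hRp.to_le (inf_le_right : C ⊓ R ≤ R))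
    have hjle : r ^ j * r ^ i ∣ r ^ (Nat.card K).factorization r := by
      have : r ^ j * r ^ i ∣ Nat.card K := by
        rw [← hmul, hi, ← hj]
        exact mul_dvd_mul_right (card_dvd_of_le inf_le_left) _
      rw [← pow_add] at this ⊢
      exact pow_dvd_pow r ((hr.pow_dvd_iff_le_factorization Nat.card_pos.ne').1 this)
    have hge : C.relIndex K ≤ C.relIndex R := by
      rw [hi]
      refine Nat.le_of_mul_le_mul_left ?_ (pow_pos hr.pos j)
      rw [← hj, hmulR, hRc, hj]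
      exact Nat.le_of_dvd (pow_pos hr.pos _) hjle
    let emb := quotientSubgroupOfEmbeddingOfLE C hRK
    have hsurj : Function.Surjective emb := by
      refine ((Nat.bijective_iff_injective_and_card _).2 ⟨emb.injective, ?_⟩).2
      exact le_antisymm (Nat.card_le_card_of_injective _ emb.injective) hge
    intro k hk
    obtain ⟨q, hq⟩ := hsurj (QuotientGroup.mk ⟨k, hk⟩)
    obtain ⟨⟨y, hy⟩, rfl⟩ := QuotientGroup.mk_surjective q
    rw [quotientSubgroupOfEmbeddingOfLE_apply_mk, QuotientGroup.eq, mem_subgroupOf] at hq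
    exact ⟨y, hy, y⁻¹ * k, by simpa using hq, by simp⟩
  have hle : ⁅K, A⁆ ≤ ⁅R, A⁆ := by
    rw [Subgroup.commutator_le]
    intro k hk a ha
    obtain ⟨y, hy, c, hc, rfl⟩ := hKR k hk
    have hca : c * a * c⁻¹ = a := by rw [← hc.2 a ha, mul_inv_cancel_right]
    have e : ⁅y * c, a⁆ = ⁅y, a⁆ := by
      calc ⁅y * c, a⁆ = y * (c * a * c⁻¹) * y⁻¹ * a⁻¹ := by simp [commutatorElement_def, mul_assoc]
        _ = _ := by rw [hca, commutatorElement_def]
    rw [e]
    exact commutator_mem_commutator hy ha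
  exact hRp.to_le (hle.trans (le_normalizer_iff_commutator_le_left.1 hAR))

/-- The core part of a pair acts irreducibly on the plane. -/
theorem pair_irr {x : G} (hx : x ∈ coreOf p H) (hxA : x ∉ centralizer (A : Set G)) :
    let H₀ := A ⊔ MulAut.conj x • A
    let Q₀ := H₀ ⊓ coreOf p H
    IsIrrPart p V H Q₀ ∧ ⁅V, Q₀⁆ = ⁅V, A⁆ ⊔ ⁅V, MulAut.conj x • A⁆ ∧
      V ⊓ centralizer (Q₀ : Set G) = V ⊓ centralizer (H₀ : Set G) := by
  intro H₀ Q₀
  haveI := S.elem.1
  obtain ⟨hnp, -, -, hcard, -⟩ := S.pair_core hA hx hxA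
  have hB := S.isTransvectionGroup_conj hA (coreOf_le (p := p) hx)
  obtain ⟨hWc, hWeq, hWC, hWV, hfaith, -, e, he⟩ := S.pair hA hB hnp
  set W := ⁅V, A⁆ ⊔ ⁅V, MulAut.conj x • A⁆
  have hp := (Fact.out : p.Prime)
  have hQ₀H : Q₀ ≤ H := inf_le_right.trans coreOf_le
  obtain ⟨k, hk, hkp, hbig, g₀, hg₀, hfpf⟩ :
      ∃ k : ℕ, 0 < k ∧ k.Coprime p ∧ 2 < Nat.card Q₀ ∧ ∃ g : Matrix.SpecialLinearGroup (Fin 2) (ZMod p),
        g ^ k = 1 ∧ ∀ (v : Fin 2 → ZMod p) (c : ZMod p),
          Matrix.mulVec (g : Matrix (Fin 2) (Fin 2) (ZMod p)) v = c • v → v = 0 := by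
    rcases S.prime_two_or_three hA hx hxA with ⟨h, h'⟩ | ⟨h, h'⟩
    · subst h; exact ⟨3, by norm_num, by decide, by rw [h']; norm_num, SL2.exists_fpf_two⟩
    · subst h; exact ⟨4, by norm_num, by decide, by rw [h']; norm_num, SL2.exists_fpf_three⟩
  set g := e.symm g₀ with hg
  have hgQ : (g : G) ∈ Q₀ := by
    refine ⟨g.2, ?_⟩
    have hn : (Q₀.subgroupOf H₀).Normal := by
      refine (normal_subgroupOf_iff_le_normalizer inf_le_left).2 ?_
      exact H20.le_normalizer_inf le_normalizer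
        (sup_le (hA.1.trans le_normalizer_coreOf) (hB.1.trans le_normalizer_coreOf))
    have hidx : (Q₀.subgroupOf H₀).index = p := by
      have h1 := (Q₀.subgroupOf H₀).card_mul_index
      rw [Nat.card_congr (subgroupOfEquivOfLe (inf_le_left : Q₀ ≤ H₀)).toEquiv, ← hcard] at h1
      exact Nat.eq_of_mul_eq_mul_left Nat.card_pos h1
    have h1 : (QuotientGroup.mk' (Q₀.subgroupOf H₀)) g = 1 := by
      refine orderOf_eq_one_iff.1 (Nat.eq_one_of_dvd_coprimes hkp ?_ ?_)
      · exact orderOf_dvd_of_pow_eq_one (by rw [← map_pow, hg, ← map_pow, hg₀, map_one, map_one])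
      · rw [← hidx]; exact orderOf_dvd_natCard _
    exact ((QuotientGroup.eq_one_iff g).1 h1 : (g : G) ∈ Q₀).2
  have hfix : ∀ u ∈ W, ∀ c : ℕ, (g : G) * u * (g : G)⁻¹ = u ^ c → u = 1 := by
    intro u hu c hc
    obtain ⟨v, hv, hv0⟩ := he g u hu c hc
    rw [hg, e.apply_symm_apply] at hv
    exact hv0 (hfpf v _ hv)
  have hirr : ∀ U : Subgroup G, U ≤ W → Q₀ ≤ normalizer (U : Set G) → U = ⊥ ∨ U = W := by
    intro U hU hN
    obtain ⟨j, hj2, hj⟩ := (Nat.dvd_prime_pow hp).1 (hWc ▸ card_dvd_of_le hU)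
    interval_cases j
    · exact Or.inl (eq_bot_of_card_eq _ (by rw [hj, pow_zero]))
    · exfalso
      rw [pow_one] at hj
      obtain ⟨u, hu, hu1⟩ := U.bot_or_exists_ne_one.resolve_left
        (fun h => hp.ne_one (by rw [← hj, h, Subgroup.card_bot]))
      have hz : U = zpowers u := by
        refine (eq_of_le_of_card_ge (zpowers_le.2 hu) ?_).symm
        rw [hj, Nat.card_zpowers, orderOf_eq_prime (S.elem.2 u ?_) hu1]
        exact (sup_le (le_normalizer_iff_commutator_le_left.1 (hA.1.trans S.norm))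
          (le_normalizer_iff_commutator_le_left.1 (hB.1.trans S.norm))) (hU hu)
      have hmem : (g : G) * u * (g : G)⁻¹ ∈ zpowers u := hz ▸ conj_mem_of_mem_normalizer (hN hgQ) hu
      obtain ⟨c, hc⟩ := (Submonoid.mem_powers_iff _ _).1
        ((isOfFinOrder_of_finite u).mem_powers_iff_mem_zpowers.2 hmem)
      exact hu1 (hfix u (hU hu) c hc.symm)
    · exact Or.inr (eq_of_le_of_card_ge hU (by rw [hWc, hj]))
  have hcommle : ⁅V, Q₀⁆ ≤ W := hWeq ▸ commutator_mono le_rfl inf_le_left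
  have hQ₀ne : Q₀ ≠ ⊥ := fun h => by rw [h, Subgroup.card_bot] at hbig; omega
  have hcomm : ⁅V, Q₀⁆ = W :=
    (hirr _ hcommle (normalizer_commutator_ge_right V Q₀)).resolve_left (S.commutator_ne_bot hQ₀H hQ₀ne)
  refine ⟨⟨hQ₀H, by rw [hcomm]; exact hirr, fun X hX hXn hXp => ?_, hbig⟩, hcomm, ?_⟩
  · rw [← inf_eq_left.2 (hX.trans inf_le_right)]
    exact H19.inf_eq_bot_of_isPGroup_coprime hXp coreOf_coprime
  · refine le_antisymm ?_ (inf_le_inf_left _ (centralizer_le inf_le_left))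
    rintro v ⟨hv, hvQ⟩
    have hCW : V ⊓ centralizer (H₀ : Set G) ≤ normalizer (W : Set G) :=
      (inf_le_left.trans (le_centralizer V)).trans ((centralizer_le
        (le_sup_left.trans_eq hWV : W ≤ V)).trans (centralizer_le_normalizer _))
    have hv' : v ∈ (W : Set G) * ((V ⊓ centralizer (H₀ : Set G) : Subgroup G) : Set G) := by
      rw [← Subgroup.coe_mul_of_right_le_normalizer_left W _ hCW, hWV]
      exact hv
    obtain ⟨w, hw, c, hc, rfl⟩ := Set.mem_mul.1 hv'
    have h1 : (g : G) * (w * c) * (g : G)⁻¹ = w * c := by rw [hvQ _ hgQ, mul_inv_cancel_right]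
    have h2 : (g : G) * c * (g : G)⁻¹ = c := by rw [hc.2 _ g.2, mul_inv_cancel_right]
    have h3 : (g : G) * w * (g : G)⁻¹ = w ^ 1 := by
      rw [pow_one]
      calc (g : G) * w * (g : G)⁻¹
          = ((g : G) * (w * c) * (g : G)⁻¹) * ((g : G) * c * (g : G)⁻¹)⁻¹ := by simp [mul_assoc]
        _ = w := by rw [h1, h2, mul_inv_cancel_right]
    rw [hfix w hw 1 h3, one_mul]
    exact hc

/-- The `SL(2,p)` component of a transvection group. -/
theorem component :
    let Q := ⁅coreOf p H, A⁆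
    let E := Q ⊔ A
    let W := ⁅V, E⁆
    (p = 2 ∨ p = 3) ∧ Nat.card W = p ^ 2 ∧ W ⊓ (V ⊓ centralizer (E : Set G)) = ⊥ ∧
      W ⊔ (V ⊓ centralizer (E : Set G)) = V ∧ E ⊓ centralizer (W : Set G) = ⊥ ∧
      Nonempty (↥E ≃* Matrix.SpecialLinearGroup (Fin 2) (ZMod p)) ∧
      IsIrrPart p V H Q ∧ ⁅V, Q⁆ = W ∧ V ⊓ centralizer (Q : Set G) = V ⊓ centralizer (E : Set G) ∧
      Nat.card Q * p = Nat.card E ∧
      (∀ x ∈ coreOf p H, x ∉ centralizer (A : Set G) → A ⊔ MulAut.conj x • A = E) := by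
  intro Q E W
  obtain ⟨r, hr, hpr, hQr⟩ := S.exists_core_prime hA
  haveI := Fact.mk hr
  obtain ⟨hAQ, hKQ, hQK⟩ := S.le_normalizer_commutator_core hA
  obtain ⟨x, hx, hxA⟩ := S.exists_moving hA
  have hp := (Fact.out : p.Prime)
  -- the planes of all moving conjugates coincide
  set W₀ := ⁅V, A⁆ ⊔ ⁅V, MulAut.conj x • A⁆
  have hconst : ∀ y ∈ coreOf p H, y ∉ centralizer (A : Set G) →
      ⁅V, A⁆ ⊔ ⁅V, MulAut.conj y • A⁆ = W₀ := by
    intro y hy hyA
    obtain ⟨hiy, hcy, -⟩ := S.pair_irr hA hy hyA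
    obtain ⟨hix, hcx, -⟩ := S.pair_irr hA hx hxA
    obtain ⟨-, -, -, -, hQy⟩ := S.pair_core hA hy hyA
    obtain ⟨-, -, -, -, hQx⟩ := S.pair_core hA hx hxA
    obtain ⟨hnpy, -⟩ := S.pair_core hA hy hyA
    obtain ⟨hnpx, -⟩ := S.pair_core hA hx hxA
    obtain ⟨hy2, -⟩ := S.pair hA (S.isTransvectionGroup_conj hA (coreOf_le hy)) hnpy
    obtain ⟨hx2, -⟩ := S.pair hA (S.isTransvectionGroup_conj hA (coreOf_le hx)) hnpx
    by_contra hne
    have h1 : ¬ ⁅V, (A ⊔ MulAut.conj y • A) ⊓ coreOf p H⁆ ≤ ⁅V, (A ⊔ MulAut.conj x • A) ⊓ coreOf p H⁆ := by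
      rw [hcy, hcx]; exact fun h => hne (eq_of_le_of_card_ge h (by rw [hy2, hx2]))
    have h2 : ¬ ⁅V, (A ⊔ MulAut.conj x • A) ⊓ coreOf p H⁆ ≤ ⁅V, (A ⊔ MulAut.conj y • A) ⊓ coreOf p H⁆ := by
      rw [hcy, hcx]; exact fun h => hne (eq_of_le_of_card_ge h (by rw [hy2, hx2])).symm
    obtain ⟨hdisj, -⟩ := irreducible_pair S.elem S.norm S.faithful _ Q _ _ rfl (hQK.trans coreOf_le)
      hQy hQx (isSubnormal_subgroupOf_of_isPGroup hQr) (isSubnormal_subgroupOf_of_isPGroup hQr)
      hiy hix h1 h2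
    rw [hcy, hcx] at hdisj
    refine (S.commutator_ne_bot hA.1 hA.ne_bot) (eq_bot_iff.2 ?_)
    rw [← hdisj]
    exact le_inf le_sup_left le_sup_left
  obtain ⟨hnp, hle, -, hcard0, -⟩ := S.pair_core hA hx hxA
  have hB := S.isTransvectionGroup_conj hA (coreOf_le (p := p) hx)
  obtain ⟨hWc, hWeq, hWC, hWV, hfaith, -, e, -⟩ := S.pair hA hB hnp
  set H₀ := A ⊔ MulAut.conj x • A
  have hPW : ⁅V, A⁆ ≤ W₀ := le_sup_left
  have hW₀V : W₀ ≤ V := le_sup_left.trans_eq hWV
  have hAM : A ≤ movesInto V W₀ := fun a ha => by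
    refine ⟨?_, fun v hv => hPW ?_⟩
    · exact (le_normalizer_iff_commutator_le_left.2 ((commutator_mono hW₀V le_rfl).trans hPW)) ha
    · rw [Subgroup.commutator_comm]; exact commutator_mem_commutator ha hv
  have hQM : Q ≤ movesInto V W₀ := by
    rw [Subgroup.commutator_le]
    intro k hk a ha
    by_cases hkA : k ∈ centralizer (A : Set G)
    · rw [commutatorElement_eq_one_iff_mul_comm.2 (mem_centralizer_iff.1 hkA a ha).symm]
      exact one_mem _
    · have hmem : k * a * k⁻¹ ∈ movesInto V W₀ := by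
        have hm : k * a * k⁻¹ ∈ MulAut.conj k • A := smul_mem_pointwise_smul a (MulAut.conj k) A ha
        refine ⟨?_, fun v hv => ?_⟩
        · refine (le_normalizer_iff_commutator_le_left.2 ?_) hm
          rw [← hconst k hk hkA]
          exact (commutator_mono (hconst k hk hkA ▸ hW₀V) le_rfl).trans le_sup_right
        · rw [← hconst k hk hkA]
          refine mem_sup_right ?_
          rw [Subgroup.commutator_comm]; exact commutator_mem_commutator hm hv
      rw [commutatorElement_def]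
      exact mul_mem hmem (inv_mem (hAM ha))
  have hEM : E ≤ movesInto V W₀ := sup_le hQM hAM
  have hW : W = W₀ := by
    refine le_antisymm ?_ (hWeq.ge.trans (commutator_mono le_rfl hle))
    change ⁅V, E⁆ ≤ W₀
    rw [Subgroup.commutator_comm, Subgroup.commutator_le]
    exact fun e' he' v hv => (hEM he').2 v hv
  have hEH : E ≤ H := sup_le (hQK.trans coreOf_le) hA.1
  have hQcop : (Nat.card Q).Coprime p := coreOf_coprime.coprime_dvd_left (card_dvd_of_le hQK)
  have hEcard : Nat.card E = Nat.card Q * p := by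
    rw [H20.card_sup_of_coprime hAQ (by rw [hA.2.1]; exact hQcop.symm), hA.2.1]
  have hfE : E ⊓ centralizer (W₀ : Set G) = ⊥ := by
    set M := E ⊓ centralizer (W₀ : Set G)
    have hMp : IsPGroup p M :=
      (isPGroup_stabilizerOfSeries S.elem hW₀V S.faithful).to_le fun m hm => ⟨hEH hm.1,
        fun u hu => commutatorElement_eq_one_iff_mul_comm.2 (hm.2 u hu).symm, fun v hv => (hEM hm.1).2 v hv⟩
    have hAM' : A ≤ normalizer (M : Set G) := by
      refine H20.le_normalizer_inf (le_sup_right.trans le_normalizer) ?_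
      exact H20.le_normalizer_centralizer (fun a ha => (hAM ha).1)
    have hsup : IsPGroup p ↥(A ⊔ M) :=
      IsPGroup.to_sup_of_normal_right' (IsPGroup.of_card (n := 1) (by rw [pow_one, hA.2.1])) hMp hAM'
    obtain ⟨k, hk⟩ := IsPGroup.iff_card.1 hsup
    have hd : Nat.card ↥(A ⊔ M) ∣ p := by
      have hle' : A ⊔ M ≤ E := sup_le le_sup_right inf_le_left
      have h1 : Nat.card ↥(A ⊔ M) ∣ Nat.card Q * p := hEcard ▸ card_dvd_of_le hle'
      have h2 : (Nat.card ↥(A ⊔ M)).Coprime (Nat.card Q) := by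
        rw [hk]; exact hQcop.symm.pow_left k
      exact h2.dvd_of_dvd_mul_left h1
    have hMA : M ≤ A := by
      have := eq_of_le_of_card_ge (le_sup_left : A ≤ A ⊔ M)
        (by rw [hA.2.1]; exact Nat.le_of_dvd hp.pos hd)
      exact le_sup_right.trans this.ge
    rw [eq_bot_iff, ← hfaith]
    exact le_inf (hMA.trans le_sup_left) inf_le_right
  have hH₀E : H₀ = E := by
    refine eq_of_le_of_card_ge hle ?_
    rw [Nat.card_congr e.toEquiv]
    obtain ⟨u, hu, hu1⟩ := (⁅V, A⁆).bot_or_exists_ne_one.resolve_left (S.commutator_ne_bot hA.1 hA.ne_bot)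
    obtain ⟨w, hw, hw1⟩ := (⁅V, MulAut.conj x • A⁆).bot_or_exists_ne_one.resolve_left
      (S.commutator_ne_bot hB.1 hB.ne_bot)
    have hzu : zpowers u = ⁅V, A⁆ := eq_of_le_of_card_ge (zpowers_le.2 hu) (by
      rw [S.card_commutator_transvection hA, Nat.card_zpowers,
        orderOf_eq_prime (S.elem.2 u (hW₀V (hPW hu))) hu1])
    have hzw : zpowers w = ⁅V, MulAut.conj x • A⁆ := eq_of_le_of_card_ge (zpowers_le.2 hw) (by
      rw [S.card_commutator_transvection hB, Nat.card_zpowers,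
        orderOf_eq_prime (S.elem.2 w (hW₀V (mem_sup_right hw))) hw1])
    have hgen : E ≤ Subgroup.closure {y : G | y ∈ E ∧ y ^ p = 1} := by
      have hAmem : ∀ a ∈ A, a ^ p = 1 := (S.transvection_facts hA).2.2
      have hAcl : A ≤ Subgroup.closure {y : G | y ∈ E ∧ y ^ p = 1} :=
        fun a ha => subset_closure ⟨mem_sup_right ha, hAmem a ha⟩
      refine sup_le ?_ hAcl
      rw [Subgroup.commutator_le]
      intro k hk a ha
      rw [commutatorElement_def]
      refine mul_mem (subset_closure ⟨?_, by rw [conj_pow, hAmem a ha, mul_one, mul_inv_cancel]⟩)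
        (inv_mem (hAcl ha))
      have : k * a * k⁻¹ = ⁅k, a⁆ * a := by simp [commutatorElement_def]
      rw [this]
      exact mul_mem (mem_sup_left (commutator_mem_commutator hk ha)) (mem_sup_right ha)
    obtain ⟨ψ, hker, -⟩ := exists_slHom (L := E) (W := W₀) (isElementaryAbelian_mono S.elem hW₀V) hWc
      (mem_sup_left hu) (mem_sup_right hw) (by rw [hzu, hzw]) (fun y hy => (hEM hy).1) hgen
    refine Nat.card_le_card_of_injective ψ ?_
    rw [← MonoidHom.ker_eq_bot_iff, eq_bot_iff]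
    intro y hy
    have h : (y : G) ∈ E ⊓ centralizer (W₀ : Set G) := ⟨y.2, (hker y).1 hy⟩
    rw [hfE, mem_bot] at h
    exact Subtype.ext h
  obtain ⟨hirr, hcomm, hfixQ⟩ := S.pair_irr hA hx hxA
  change IsIrrPart p V H (H₀ ⊓ coreOf p H) at hirr
  change ⁅V, H₀ ⊓ coreOf p H⁆ = W₀ at hcomm
  change V ⊓ centralizer ((H₀ ⊓ coreOf p H : Subgroup G) : Set G) = V ⊓ centralizer (H₀ : Set G) at hfixQ
  have hQeq : H₀ ⊓ coreOf p H = Q := by
    rw [hH₀E]; exact sup_inf_eq_of_coprime hQK coreOf_coprime hA.2.1 hAQ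
  simp only [hQeq] at hirr hcomm hfixQ hcard0
  rw [hH₀E] at hWC hWV hfixQ e
  refine ⟨?_, hW ▸ hWc, hW ▸ hWC, hW ▸ hWV, hW ▸ hfE, ⟨e⟩, hirr, hW ▸ hcomm, hfixQ,
    hEcard.symm, fun y hy hyA => ?_⟩
  · rcases hpr with ⟨h, -⟩ | ⟨h, -⟩
    · exact Or.inl h
    · exact Or.inr h
  · obtain ⟨hnpy, hley, -⟩ := S.pair_core hA hy hyA
    obtain ⟨-, -, -, -, -, -, ey, -⟩ := S.pair hA (S.isTransvectionGroup_conj hA (coreOf_le hy)) hnpy
    refine eq_of_le_of_card_ge hley ?_
    rw [Nat.card_congr e.toEquiv, Nat.card_congr ey.toEquiv]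

end FFSetup

end Cfsg.Agent.H34
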