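import Cfsg.Agent.H34.Component
import Cfsg.Agent.H20.Abelian

/-! How the components of different transvection groups interact. -/

set_option autoImplicit false

namespace Cfsg.Agent.H34

open Subgroup
open Cfsg
open scoped commutatorElement Pointwise

variable {G : Type*} [Group G] [Finite G] {p : ℕ} [Fact p.Prime] {V H A B : Subgroup G}

/-- The component `[K, A] A` of a transvection group. -/
abbrev compOf (p : ℕ) (H A : Subgroup G) : Subgroup G := ⁅coreOf p H, A⁆ ⊔ A

namespace FFSetup

variable (S : FFSetup p V H)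
include S

/-- Facts about one component. -/
structure CompFacts (p : ℕ) (V H A : Subgroup G) : Prop where
  prime : p = 2 ∨ p = 3
  le : compOf p H A ≤ H
  card : Nat.card ↥⁅V, compOf p H A⁆ = p ^ 2
  moduleLe : ⁅V, compOf p H A⁆ ≤ V
  inf : ⁅V, compOf p H A⁆ ⊓ (V ⊓ centralizer ((compOf p H A : Subgroup G) : Set G)) = ⊥
  sup : ⁅V, compOf p H A⁆ ⊔ (V ⊓ centralizer ((compOf p H A : Subgroup G) : Set G)) = V
  faithful : compOf p H A ⊓ centralizer ((⁅V, compOf p H A⁆ : Subgroup G) : Set G) = ⊥
  iso : Nonempty (↥(compOf p H A) ≃* Matrix.SpecialLinearGroup (Fin 2) (ZMod p))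
  irr : IsIrrPart p V H ⁅coreOf p H, A⁆
  comm : ⁅V, ⁅coreOf p H, A⁆⁆ = ⁅V, compOf p H A⁆
  fixEq : V ⊓ centralizer ((⁅coreOf p H, A⁆ : Subgroup G) : Set G) =
    V ⊓ centralizer ((compOf p H A : Subgroup G) : Set G)
  cardCore : Nat.card ↥⁅coreOf p H, A⁆ * p = Nat.card ↥(compOf p H A)

/-- Every transvection group has a component. -/
theorem compFacts (hA : IsTransvectionGroup p V H A) : CompFacts p V H A := by
  obtain ⟨h1, h2, h3, h4, h5, h6, h7, h8, h9, h10, -⟩ := S.component hA
  obtain ⟨-, -, hQK⟩ := S.le_normalizer_commutator_core hA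
  have hle : compOf p H A ≤ H := sup_le (hQK.trans coreOf_le) hA.1
  exact ⟨h1, hle, h2, le_normalizer_iff_commutator_le_left.1 (hle.trans S.norm), h3, h4, h5, h6, h7, h8,
    h9, h10⟩

/-- A component is generated by elements of order dividing `p`. -/
theorem compOf_le_closure (hA : IsTransvectionGroup p V H A) :
    compOf p H A ≤ Subgroup.closure {y : G | y ∈ compOf p H A ∧ y ^ p = 1} := by
  have hAmem : ∀ a ∈ A, a ^ p = 1 := (S.transvection_facts hA).2.2
  have hAcl : A ≤ Subgroup.closure {y : G | y ∈ compOf p H A ∧ y ^ p = 1} :=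
    fun a ha => Subgroup.subset_closure ⟨mem_sup_right ha, hAmem a ha⟩
  refine sup_le ?_ hAcl
  rw [Subgroup.commutator_le]
  intro k hk a ha
  rw [commutatorElement_def]
  refine mul_mem (Subgroup.subset_closure ⟨?_, by rw [conj_pow, hAmem a ha, mul_one, mul_inv_cancel]⟩)
    (inv_mem (hAcl ha))
  have : k * a * k⁻¹ = ⁅k, a⁆ * a := by simp [commutatorElement_def]
  rw [this]
  exact mul_mem (mem_sup_left (commutator_mem_commutator hk ha)) (mem_sup_right ha)

/-- An element of order dividing `p` normalising the plane acts on it like an element of the component. -/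
theorem exists_comp_same_action (hA : IsTransvectionGroup p V H A) {b : G} (hbp : b ^ p = 1)
    (hbW : b ∈ normalizer ((⁅V, compOf p H A⁆ : Subgroup G) : Set G)) :
    ∃ e ∈ compOf p H A, e⁻¹ * b ∈ centralizer ((⁅V, compOf p H A⁆ : Subgroup G) : Set G) := by
  have F := S.compFacts hA
  set E := compOf p H A
  set W := ⁅V, E⁆
  have hp := (Fact.out : p.Prime)
  haveI := S.elem.1
  have hWe : IsElementaryAbelian p W := isElementaryAbelian_mono S.elem F.moduleLe
  obtain ⟨u, hu, hu1⟩ := W.bot_or_exists_ne_one.resolve_left (fun h => by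
    have hc : Nat.card ↥W = p ^ 2 := F.card
    rw [h, Subgroup.card_bot] at hc; exact (Nat.one_lt_pow (by norm_num) hp.one_lt).ne hc)
  obtain ⟨w, hw, hwu⟩ : ∃ w ∈ W, w ∉ zpowers u := by
    by_contra h
    have hle : W ≤ zpowers u := fun w hw => by_contra fun hn => h ⟨w, hw, hn⟩
    have := card_le_of_le hle
    rw [F.card, Nat.card_zpowers, orderOf_eq_prime (hWe.2 u hu) hu1, sq] at this
    have h1 := Nat.mul_le_mul_left p hp.two_le
    have h2 := hp.pos
    omega
  have hWgen : W ≤ zpowers u ⊔ zpowers w := by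
    refine (eq_of_le_of_card_ge (sup_le (zpowers_le.2 hu) (zpowers_le.2 hw)) (le_of_eq ?_)).ge
    have huw : w ∈ centralizer ((zpowers u : Subgroup G) : Set G) := fun x hx =>
      setLike_mul_comm (s := V) (F.moduleLe (zpowers_le.2 hu hx)) (F.moduleLe hw)
    rw [card_sup_zpowers (centralizer_le_normalizer _ huw) (hWe.2 w hw) hwu, Nat.card_zpowers,
      orderOf_eq_prime (hWe.2 u hu) hu1, F.card, sq]
  have hLN : E ⊔ zpowers b ≤ normalizer (W : Set G) :=
    sup_le (normalizer_commutator_ge_right V E) (zpowers_le.2 hbW)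
  have hLgen : E ⊔ zpowers b ≤ Subgroup.closure {y : G | y ∈ E ⊔ zpowers b ∧ y ^ p = 1} :=
    sup_le ((S.compOf_le_closure hA).trans
        (Subgroup.closure_mono fun y hy => ⟨mem_sup_left hy.1, hy.2⟩))
      (zpowers_le.2 (Subgroup.subset_closure ⟨mem_sup_right (mem_zpowers b), hbp⟩))
  obtain ⟨ψ, hker, -⟩ := exists_slHom (L := E ⊔ zpowers b) hWe F.card hu hw hWgen hLN hLgen
  let φ := ψ.comp (Subgroup.inclusion (le_sup_left : E ≤ E ⊔ zpowers b))
  have hinj : Function.Injective φ := by
    rw [← MonoidHom.ker_eq_bot_iff, eq_bot_iff]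
    intro y hy
    have h : (y : G) ∈ E ⊓ centralizer (W : Set G) := ⟨y.2, (hker _).1 hy⟩
    rw [F.faithful, mem_bot] at h
    exact Subtype.ext h
  have hsurj : Function.Surjective φ := by
    obtain ⟨e⟩ := F.iso
    exact ((Nat.bijective_iff_injective_and_card _).2 ⟨hinj, Nat.card_congr e.toEquiv⟩).2
  obtain ⟨e, he⟩ := hsurj (ψ ⟨b, mem_sup_right (mem_zpowers b)⟩)
  refine ⟨e, e.2, ?_⟩
  refine (hker ((Subgroup.inclusion le_sup_left e)⁻¹ * ⟨b, mem_sup_right (mem_zpowers b)⟩)).1 ?_
  rw [map_mul, map_inv, ← he]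
  exact inv_mul_cancel _

/-- Two components either coincide or have independent planes. -/
theorem comp_eq_or_disjoint (hA : IsTransvectionGroup p V H A) (hB : IsTransvectionGroup p V H B) :
    (⁅V, compOf p H A⁆ = ⁅V, compOf p H B⁆ → compOf p H A = compOf p H B) ∧
      (⁅V, compOf p H A⁆ ≠ ⁅V, compOf p H B⁆ → ⁅V, compOf p H A⁆ ⊓ ⁅V, compOf p H B⁆ = ⊥) := by
  have FA := S.compFacts hA
  have FB := S.compFacts hB
  obtain ⟨-, hKA, hAK⟩ := S.le_normalizer_commutator_core hA
  obtain ⟨-, hKB, hBK⟩ := S.le_normalizer_commutator_core hB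
  haveI := S.elem.1
  constructor
  · intro hW
    set L := ⁅coreOf p H, A⁆ ⊔ ⁅coreOf p H, B⁆
    set W := ⁅V, compOf p H A⁆
    have hLK : L ≤ coreOf p H := sup_le hAK hBK
    have hcop : (Nat.card L).Coprime (Nat.card V) := by
      obtain ⟨k, hk⟩ := IsPGroup.iff_card.1 (IsPGroup_of_isElementaryAbelian S.elem)
      rw [hk]
      exact (coreOf_coprime.coprime_dvd_left (card_dvd_of_le hLK)).pow_right k
    have hLN : L ≤ normalizer (V : Set G) := hLK.trans (coreOf_le.trans S.norm)
    obtain ⟨hinfL, hsupL⟩ := H20.abelian_decomposition hLN hcop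
    have hWN : L ≤ normalizer (W : Set G) :=
      sup_le (le_sup_left.trans (normalizer_commutator_ge_right V _))
        (hW ▸ le_sup_left.trans (normalizer_commutator_ge_right V _))
    have hcommL : ⁅V, L⁆ ≤ W := by
      have hM : L ≤ movesInto V W := by
        refine sup_le (fun x hx => ⟨hWN (mem_sup_left hx), fun v hv => ?_⟩)
          (fun x hx => ⟨hWN (mem_sup_right hx), fun v hv => ?_⟩)
        · rw [show W = ⁅V, ⁅coreOf p H, A⁆⁆ from FA.comm.symm, Subgroup.commutator_comm]
          exact commutator_mem_commutator hx hv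
        · rw [show W = ⁅V, ⁅coreOf p H, B⁆⁆ from hW.trans FB.comm.symm, Subgroup.commutator_comm]
          exact commutator_mem_commutator hx hv
      rw [Subgroup.commutator_comm, Subgroup.commutator_le]
      exact fun x hx v hv => (hM hx).2 v hv
    have hfix : V ⊓ centralizer (L : Set G) =
        V ⊓ centralizer ((compOf p H A : Subgroup G) : Set G) ∧
        V ⊓ centralizer (L : Set G) = V ⊓ centralizer ((compOf p H B : Subgroup G) : Set G) := by
      have h1 : Nat.card V ≤ Nat.card ↥(V ⊓ centralizer (L : Set G)) * p ^ 2 := by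
        have h := card_mul_card_le (V ⊓ centralizer (L : Set G)) ⁅V, L⁆
        have hp2 : Nat.card ↥⁅V, L⁆ ≤ p ^ 2 := FA.card ▸ card_le_of_le hcommL
        have hle : Nat.card V ≤ Nat.card ↥(V ⊓ centralizer (L : Set G)) * Nat.card ↥⁅V, L⁆ := by
          have hN : ⁅V, L⁆ ≤ normalizer ((V ⊓ centralizer (L : Set G) : Subgroup G) : Set G) :=
            ((le_normalizer_iff_commutator_le_left.1 hLN).trans ((le_centralizer V).trans
              (centralizer_le inf_le_left))).trans (centralizer_le_normalizer _)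
          let m : ↥(V ⊓ centralizer (L : Set G)) × ↥⁅V, L⁆ → V := fun q =>
            ⟨(q.1 : G) * q.2, V.mul_mem q.1.2.1 (le_normalizer_iff_commutator_le_left.1 hLN q.2.2)⟩
          calc Nat.card V ≤ Nat.card (↥(V ⊓ centralizer (L : Set G)) × ↥⁅V, L⁆) := by
                refine Nat.card_le_card_of_surjective m fun v => ?_
                have hv : (v : G) ∈ ((V ⊓ centralizer (L : Set G) : Subgroup G) : Set G) * (⁅V, L⁆ : Subgroup G) := by
                  rw [← Subgroup.coe_mul_of_right_le_normalizer_left _ _ hN, hsupL]; exact v.2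
                obtain ⟨a, ha, b, hb, hab⟩ := Set.mem_mul.1 hv
                exact ⟨(⟨a, ha⟩, ⟨b, hb⟩), Subtype.ext hab⟩
            _ = _ := Nat.card_prod _ _
        exact hle.trans (Nat.mul_le_mul_left _ hp2)
      have key : ∀ X : Subgroup G, IsTransvectionGroup p V H X → ⁅coreOf p H, X⁆ ≤ L →
          V ⊓ centralizer (L : Set G) = V ⊓ centralizer ((compOf p H X : Subgroup G) : Set G) := by
        intro X hX hXL
        have FX := S.compFacts hX
        have hle : V ⊓ centralizer (L : Set G) ≤ V ⊓ centralizer ((compOf p H X : Subgroup G) : Set G) :=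
          FX.fixEq ▸ inf_le_inf_left _ (centralizer_le hXL)
        refine eq_of_le_of_card_ge hle ?_
        have h := card_mul_card_le ⁅V, compOf p H X⁆ (V ⊓ centralizer ((compOf p H X : Subgroup G) : Set G))
        rw [FX.inf, FX.sup, Subgroup.card_bot, mul_one, FX.card, mul_comm] at h
        exact Nat.le_of_mul_le_mul_right (h.trans h1) (pow_pos (Fact.out : p.Prime).pos 2)
      exact ⟨key A hA le_sup_left, key B hB le_sup_right⟩
    set C := V ⊓ centralizer (L : Set G)
    have key2 : ∀ {X Y : Subgroup G}, IsTransvectionGroup p V H X → IsTransvectionGroup p V H Y →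
        ⁅V, compOf p H X⁆ = W → ⁅V, compOf p H Y⁆ = W →
        C = V ⊓ centralizer ((compOf p H X : Subgroup G) : Set G) →
        C = V ⊓ centralizer ((compOf p H Y : Subgroup G) : Set G) → compOf p H Y ≤ compOf p H X := by
      intro X Y hX hY hWX hWY hCX hCY
      have FX := S.compFacts hX
      refine (S.compOf_le_closure hY).trans ((Subgroup.closure_le _).2 ?_)
      rintro y ⟨hy, hyp⟩
      have hyW : y ∈ normalizer ((⁅V, compOf p H X⁆ : Subgroup G) : Set G) := by
        rw [hWX, ← hWY]; exact normalizer_commutator_ge_right V _ hy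
      obtain ⟨e, he, hec⟩ := S.exists_comp_same_action hX hyp hyW
      have hyH : y ∈ H := (S.compFacts hY).le hy
      have h : e⁻¹ * y ∈ H ⊓ centralizer (V : Set G) := by
        refine ⟨H.mul_mem (H.inv_mem (FX.le he)) hyH, ?_⟩
        rw [SetLike.mem_coe, ← FX.sup, centralizer_sup_eq]
        refine ⟨hec, (centralizer _).mul_mem ((centralizer _).inv_mem ?_) ?_⟩
        · exact fun c hc => (hc.2 e he).symm
        · intro c hc
          rw [SetLike.mem_coe, ← hCX, hCY] at hc
          exact (hc.2 y hy).symm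
      rw [S.faithful, mem_bot, inv_mul_eq_one] at h
      exact h ▸ he
    exact le_antisymm (key2 hB hA hW.symm rfl hfix.2 hfix.1) (key2 hA hB rfl hW.symm hfix.1 hfix.2)
  · intro hne
    have h := irreducible_pair S.elem S.norm S.faithful _ (⁅coreOf p H, A⁆ ⊔ ⁅coreOf p H, B⁆) _ _ rfl
      (sup_le (hAK.trans coreOf_le) (hBK.trans coreOf_le)) le_sup_left le_sup_right ?_ ?_ FA.irr FB.irr
      ?_ ?_
    · have := h.1
      rwa [FA.comm, FB.comm] at this
    · exact Subgroup.Normal.isSubnormal ((normal_subgroupOf_iff_le_normalizer le_sup_left).2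
        ((sup_le hAK hBK).trans hKA))
    · exact Subgroup.Normal.isSubnormal ((normal_subgroupOf_iff_le_normalizer le_sup_right).2
        ((sup_le hAK hBK).trans hKB))
    · rw [FA.comm, FB.comm]
      exact fun h => hne (eq_of_le_of_card_ge h (by rw [FA.card, FB.card]))
    · rw [FA.comm, FB.comm]
      exact fun h => hne (eq_of_le_of_card_ge h (by rw [FA.card, FB.card])).symm

/-- Conjugating a component by an element of `H`. -/
theorem conj_compOf {g : G} (hg : g ∈ H) :
    MulAut.conj g • compOf p H A = compOf p H (MulAut.conj g • A) := by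
  have hK : MulAut.conj g • coreOf p H = coreOf p H :=
    H20.conj_smul_eq_of_mem_normalizer (le_normalizer_coreOf hg)
  change (compOf p H A).map (MulAut.conj g).toMonoidHom = _
  rw [Subgroup.map_sup, Subgroup.map_commutator]
  change ⁅MulAut.conj g • coreOf p H, MulAut.conj g • A⁆ ⊔ MulAut.conj g • A = _
  rw [hK]

/-- A transvection group normalises every component. -/
theorem transvection_le_normalizer (hA : IsTransvectionGroup p V H A)
    (hB : IsTransvectionGroup p V H B) :
    B ≤ normalizer ((compOf p H A : Subgroup G) : Set G) ∧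
      B ≤ normalizer ((⁅V, compOf p H A⁆ : Subgroup G) : Set G) := by
  haveI := S.elem.1
  have FA := S.compFacts hA
  have key : ∀ b ∈ B, MulAut.conj b • ⁅V, compOf p H A⁆ = ⁅V, compOf p H A⁆ ∧
      MulAut.conj b • compOf p H A = compOf p H A := by
    intro b hb
    have hbH : b ∈ H := hB.1 hb
    have hA' := S.isTransvectionGroup_conj hA hbH
    have hconj : MulAut.conj b • ⁅V, compOf p H A⁆ = ⁅V, compOf p H (MulAut.conj b • A)⁆ := by
      rw [← S.conj_compOf hbH]
      conv_rhs => rw [← H20.conj_smul_eq_of_mem_normalizer (S.norm hbH)]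
      exact Subgroup.map_commutator V _ (MulAut.conj b).toMonoidHom
    have hW : ⁅V, compOf p H A⁆ = ⁅V, compOf p H (MulAut.conj b • A)⁆ := by
      by_contra hne
      obtain ⟨u, hu, hu1⟩ := (⁅V, compOf p H A⁆ ⊓ centralizer (B : Set G)).bot_or_exists_ne_one.resolve_left
        (fun h => by
          have h1 := card_mul_card_le ⁅V, compOf p H A⁆ (V ⊓ centralizer (B : Set G))
          rw [← inf_assoc, inf_eq_left.2 FA.moduleLe, h, Subgroup.card_bot, mul_one, FA.card] at h1
          have h2 : Nat.card ↥(⁅V, compOf p H A⁆ ⊔ (V ⊓ centralizer (B : Set G))) ≤ Nat.card V :=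
            card_le_of_le (sup_le FA.moduleLe inf_le_left)
          have h3 := h1.trans h2
          rw [← hB.2.2, sq, mul_comm (Nat.card ↥(V ⊓ centralizer (B : Set G))) p, mul_assoc] at h3
          have h4 := Nat.le_of_mul_le_mul_left h3 (Fact.out : p.Prime).pos
          have h5 : p * Nat.card ↥(V ⊓ centralizer (B : Set G)) ≤ 1 * Nat.card ↥(V ⊓ centralizer (B : Set G)) := by
            rw [one_mul]; exact h4
          exact absurd (Nat.le_of_mul_le_mul_right h5 Nat.card_pos) (Nat.not_le.2 (Fact.out : p.Prime).one_lt))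
      have hmem : u ∈ MulAut.conj b • ⁅V, compOf p H A⁆ := by
        have := smul_mem_pointwise_smul u (MulAut.conj b) _ hu.1
        rwa [MulAut.smul_def, MulAut.conj_apply, hu.2 b hb, mul_inv_cancel_right] at this
      rw [hconj] at hmem
      have hd := (S.comp_eq_or_disjoint hA hA').2 hne
      have hu2 : u ∈ ⁅V, compOf p H A⁆ ⊓ ⁅V, compOf p H (MulAut.conj b • A)⁆ := ⟨hu.1, hmem⟩
      rw [hd, mem_bot] at hu2
      exact hu1 hu2
    exact ⟨hconj.trans hW.symm, (S.conj_compOf hbH).trans ((S.comp_eq_or_disjoint hA hA').1 hW).symm⟩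
  exact ⟨fun b hb => H20.mem_normalizer_of_conj_smul_eq (key b hb).2,
    fun b hb => H20.mem_normalizer_of_conj_smul_eq (key b hb).1⟩

variable (hgen : H = ⨆ A : {A : Subgroup G // A ≤ H ∧ IsBestOffenderOn p V A}, (A : Subgroup G))
include hgen

/-- `H` is generated by transvection groups. -/
theorem le_sSup_transvections : H ≤ sSup {B | IsTransvectionGroup p V H B} := by
  conv_lhs => rw [hgen]
  exact iSup_le fun A => (S.generated_by_transvections A.2.1 A.2.2).trans
    (sSup_le_sSup fun B hB => hB.1)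

/-- `H` normalises each component and its plane. -/
theorem le_normalizer_comp (hA : IsTransvectionGroup p V H A) :
    H ≤ normalizer ((compOf p H A : Subgroup G) : Set G) ∧
      H ≤ normalizer ((⁅V, compOf p H A⁆ : Subgroup G) : Set G) :=
  ⟨(S.le_sSup_transvections hgen).trans (sSup_le fun _ hB => (S.transvection_le_normalizer hA hB).1),
    (S.le_sSup_transvections hgen).trans (sSup_le fun _ hB => (S.transvection_le_normalizer hA hB).2)⟩

/-- The direct factor decomposition. -/
theorem comp_direct_factor (hA : IsTransvectionGroup p V H A) :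
    let E := compOf p H A
    let C := H ⊓ centralizer ((⁅V, E⁆ : Subgroup G) : Set G)
    ⁅E, C⁆ = ⊥ ∧ E ⊓ C = ⊥ ∧ E ⊔ C = H ∧ ⁅V, C⁆ ≤ V ⊓ centralizer (E : Set G) := by
  intro E C
  haveI := S.elem.1
  have F := S.compFacts hA
  obtain ⟨hNE, hNW⟩ := S.le_normalizer_comp hgen hA
  set W := ⁅V, E⁆
  set C₀ := V ⊓ centralizer (E : Set G)
  have hHC₀ : H ≤ normalizer (C₀ : Set G) :=
    H20.le_normalizer_inf S.norm (H20.le_normalizer_centralizer hNE)
  refine ⟨?_, ?_, ?_, ?_⟩
  · rw [eq_bot_iff, ← S.faithful, Subgroup.commutator_le]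
    intro e he c hc
    refine ⟨?_, ?_⟩
    · rw [commutatorElement_def]
      exact H.mul_mem (H.mul_mem (H.mul_mem (F.le he) hc.1) (H.inv_mem (F.le he))) (H.inv_mem hc.1)
    rw [SetLike.mem_coe, ← F.sup, centralizer_sup_eq]
    have hcW : ∀ w ∈ W, c * w * c⁻¹ = w := fun w hw => by
      rw [← hc.2 w hw, mul_inv_cancel_right]
    have hcW' : ∀ w ∈ W, c⁻¹ * w * c = w := fun w hw => by
      rw [mul_assoc, hc.2 w hw, inv_mul_cancel_left]
    have heC : ∀ u ∈ C₀, e * u * e⁻¹ = u := fun u hu => by rw [hu.2 e he, mul_inv_cancel_right]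
    have heC' : ∀ u ∈ C₀, e⁻¹ * u * e = u := fun u hu => by
      rw [mul_assoc, ← hu.2 e he, inv_mul_cancel_left]
    have step : ∀ u : G, ⁅⁅e, c⁆, u⁆ = 1 → u * ⁅e, c⁆ = ⁅e, c⁆ * u := fun u h =>
      (commutatorElement_eq_one_iff_mul_comm.1 h).symm
    refine ⟨fun u hu => step u ?_, fun u hu => step u ?_⟩
    · have hu' : e⁻¹ * u * e ∈ W := by
        have := conj_mem_of_mem_normalizer (normalizer_commutator_ge_right V E (inv_mem he)) hu
        simpa using this
      calc ⁅⁅e, c⁆, u⁆ = e * (c * (e⁻¹ * (c⁻¹ * u * c) * e) * c⁻¹) * e⁻¹ * u⁻¹ := by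
            simp [commutatorElement_def, mul_assoc]
        _ = e * (e⁻¹ * u * e) * e⁻¹ * u⁻¹ := by rw [hcW' u hu, hcW _ hu']
        _ = 1 := by simp [mul_assoc]
    · have hu' : c⁻¹ * u * c ∈ C₀ := by
        have := conj_mem_of_mem_normalizer (hHC₀ (inv_mem hc.1)) hu
        simpa using this
      calc ⁅⁅e, c⁆, u⁆ = e * (c * (e⁻¹ * (c⁻¹ * u * c) * e) * c⁻¹) * e⁻¹ * u⁻¹ := by
            simp [commutatorElement_def, mul_assoc]
        _ = e * (c * (c⁻¹ * u * c) * c⁻¹) * e⁻¹ * u⁻¹ := by rw [heC' _ hu']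
        _ = (e * u * e⁻¹) * u⁻¹ := by simp [mul_assoc]
        _ = 1 := by rw [heC u hu, mul_inv_cancel]
  · rw [eq_bot_iff, ← F.faithful]
    exact le_inf inf_le_left (inf_le_right.trans inf_le_right)
  · refine le_antisymm (sup_le F.le inf_le_left) ?_
    refine (S.le_sSup_transvections hgen).trans (sSup_le fun B hB b hb => ?_)
    obtain ⟨e, he, hec⟩ := S.exists_comp_same_action hA ((S.transvection_facts hB).2.2 b hb) (hNW (hB.1 hb))
    have : b = e * (e⁻¹ * b) := by simp
    rw [this]
    exact mul_mem (mem_sup_left he) (mem_sup_right ⟨H.mul_mem (H.inv_mem (F.le he)) (hB.1 hb), hec⟩)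
  · rw [Subgroup.commutator_le]
    intro v hv c hc
    have hWC₀ : C₀ ≤ normalizer (W : Set G) :=
      (inf_le_left.trans (le_centralizer V)).trans ((centralizer_le F.moduleLe).trans (centralizer_le_normalizer _))
    have hv' : v ∈ (W : Set G) * (C₀ : Set G) := by
      rw [← Subgroup.coe_mul_of_right_le_normalizer_left W C₀ hWC₀, F.sup]; exact hv
    obtain ⟨w, hw, u, hu, rfl⟩ := Set.mem_mul.1 hv'
    have hc1 : ⁅w, c⁆ = 1 := commutatorElement_eq_one_iff_mul_comm.2 (hc.2 w hw)
    have huc : ⁅u, c⁆ ∈ C₀ := by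
      rw [← commutatorElement_inv]
      exact inv_mem (comm_mem_of_mem_normalizer (hHC₀ hc.1) hu)
    rw [commutatorElement_mul_left_eq_conj_mul, hc1, mul_one,
      setLike_mul_comm (s := V) (F.moduleLe hw) huc.1, mul_inv_cancel_right]
    exact huc

end FFSetup

end Cfsg.Agent.H34
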