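import Mathlib.LinearAlgebra.Matrix.ToLin
import Mathlib.Algebra.Module.ZMod
import Mathlib.GroupTheory.Subgroup.Centralizer
import Mathlib.FieldTheory.Finite.Basic
import Cfsg.Prelude.Def_PLocal

/-! Coordinates for the action of a normaliser on an elementary abelian group of order `p²`. -/

set_option autoImplicit false

namespace Cfsg.Agent.H34

open Subgroup
open Cfsg

variable {G : Type*} [Group G] [Finite G] {p : ℕ} [Fact p.Prime] {W : Subgroup G}

/-- The matrix representation of the normaliser of a plane with respect to two generators. -/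
theorem exists_planeHom (hW : IsElementaryAbelian p W) (hcard : Nat.card W = p ^ 2) {e₁ e₂ : G}
    (h₁ : e₁ ∈ W) (h₂ : e₂ ∈ W) (hgen : W ≤ zpowers e₁ ⊔ zpowers e₂) :
    ∃ φ : (normalizer (W : Set G)) →* Matrix (Fin 2) (Fin 2) (ZMod p),
      (∀ h, φ h = 1 ↔ (h : G) ∈ centralizer (W : Set G)) ∧
      (∀ (h : (normalizer (W : Set G))) (a b : ℕ), (h : G) * e₁ * (h : G)⁻¹ = e₁ ^ a * e₂ ^ b →
        φ h 0 0 = a ∧ φ h 1 0 = b) ∧
      (∀ (h : (normalizer (W : Set G))) (a b : ℕ), (h : G) * e₂ * (h : G)⁻¹ = e₁ ^ a * e₂ ^ b →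
        φ h 0 1 = a ∧ φ h 1 1 = b) ∧
      ∀ (h : (normalizer (W : Set G))), ∀ u ∈ W, ∀ c : ℕ, (h : G) * u * (h : G)⁻¹ = u ^ c →
        ∃ v : Fin 2 → ZMod p, Matrix.mulVec (φ h) v = (c : ZMod p) • v ∧ (v = 0 → u = 1) := by
  letI : CommGroup W := { (inferInstance : Group W) with
    mul_comm := fun x y => haveI := hW.1; Subtype.ext (setLike_mul_comm (s := W) x.2 y.2) }
  have hkill : ∀ w : Additive W, (p : ℕ) • w = 0 := fun w => Subtype.ext (hW.2 _ w.toMul.2)
  haveI : Module (ZMod p) (Additive W) := AddCommGroup.zmodModule hkill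
  let w₁ : Additive W := Additive.ofMul ⟨e₁, h₁⟩
  let w₂ : Additive W := Additive.ofMul ⟨e₂, h₂⟩
  let f : (Fin 2 → ZMod p) →ₗ[ZMod p] Additive W :=
    Fintype.linearCombination (ZMod p) ![w₁, w₂]
  have hf : ∀ a b : ℕ, f ![(a : ZMod p), (b : ZMod p)] = Additive.ofMul ⟨e₁ ^ a * e₂ ^ b,
      mul_mem (pow_mem h₁ a) (pow_mem h₂ b)⟩ := by
    intro a b
    rw [Fintype.linearCombination_apply, Fin.sum_univ_two]
    simp only [Matrix.cons_val_zero, Matrix.cons_val_one, Nat.cast_smul_eq_nsmul]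
    rfl
  have hsurj : Function.Surjective f := by
    intro w
    let R : Subgroup G :=
      ((LinearMap.range f).toAddSubgroup.toSubgroup').map W.subtype
    have h1 : e₁ ∈ R := ⟨⟨e₁, h₁⟩, ⟨![((1 : ℕ) : ZMod p), ((0 : ℕ) : ZMod p)],
      (hf 1 0).trans (congrArg Additive.ofMul (Subtype.ext (by simp)))⟩, rfl⟩
    have h2 : e₂ ∈ R := ⟨⟨e₂, h₂⟩, ⟨![((0 : ℕ) : ZMod p), ((1 : ℕ) : ZMod p)],
      (hf 0 1).trans (congrArg Additive.ofMul (Subtype.ext (by simp)))⟩, rfl⟩
    obtain ⟨x, ⟨v, hv⟩, hx⟩ := hgen.trans (sup_le (zpowers_le.2 h1) (zpowers_le.2 h2)) w.toMul.2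
    exact ⟨v, hv.trans (congrArg Additive.ofMul (Subtype.ext hx))⟩
  have hbij : Function.Bijective f := by
    refine (Nat.bijective_iff_surjective_and_card _).2 ⟨hsurj, ?_⟩
    rw [Nat.card_fun, Nat.card_fin, Nat.card_zmod, Nat.card_congr Additive.toMul, hcard]
  let ι := LinearEquiv.ofBijective f hbij
  let c : (normalizer (W : Set G)) →* ((Additive W) →ₗ[ZMod p] Additive W) :=
    { toFun := fun h => ((W.normalizerMonoidHom h).toMonoidHom.toAdditive).toZModLinearMap p
      map_one' := by ext w; simp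
      map_mul' := fun x y => by ext w; simp }
  let φ : (normalizer (W : Set G)) →* Matrix (Fin 2) (Fin 2) (ZMod p) :=
    { toFun := fun h => LinearMap.toMatrixAlgEquiv' (ι.symm.conj (c h))
      map_one' := by rw [map_one]; simp [Module.End.one_eq_id]
      map_mul' := fun x y => by
        have h : ι.symm.conj (c (x * y)) = ι.symm.conj (c x) * ι.symm.conj (c y) := by
          ext v
          simp [LinearEquiv.conj_apply]
        rw [h, map_mul] }
  have hcol : ∀ (h : (normalizer (W : Set G))) (v : Fin 2 → ZMod p),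
      ι (Matrix.mulVec (φ h) v) = c h (ι v) := by
    intro h v
    change ι (Matrix.toLinAlgEquiv' (LinearMap.toMatrixAlgEquiv' (ι.symm.conj (c h))) v) = _
    rw [Matrix.toLinAlgEquiv'_toMatrixAlgEquiv']
    simp [LinearEquiv.conj_apply]
  have hcolj : ∀ (h : (normalizer (W : Set G))) (j : Fin 2) (a b : ℕ) (e : G) (he : e ∈ W),
      ι (Pi.single j 1) = Additive.ofMul ⟨e, he⟩ → (h : G) * e * (h : G)⁻¹ = e₁ ^ a * e₂ ^ b →
        φ h 0 j = a ∧ φ h 1 j = b := by
    intro h j a b e he hj hconj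
    have h' := hcol h (Pi.single j 1)
    rw [Matrix.mulVec_single_one, hj] at h'
    have h2 : c h (Additive.ofMul ⟨e, he⟩) = ι ![(a : ZMod p), (b : ZMod p)] :=
      (congrArg Additive.ofMul (Subtype.ext hconj)).trans (hf a b).symm
    rw [h2] at h'
    have h3 := ι.injective h'
    exact ⟨congrFun h3 0, congrFun h3 1⟩
  refine ⟨φ, fun h => ⟨fun hh => ?_, fun hh => ?_⟩, fun h a b hab => ?_, fun h a b hab => ?_,
    fun h u hu c' hc' => ?_⟩
  · rw [mem_centralizer_iff]
    intro w hw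
    obtain ⟨v, hv⟩ := hbij.2 (Additive.ofMul ⟨w, hw⟩)
    have h' := hcol h v
    rw [hh, Matrix.one_mulVec] at h'
    have h2 : c h (Additive.ofMul ⟨w, hw⟩) = Additive.ofMul ⟨w, hw⟩ := by
      rw [← hv]; exact h'.symm
    have h3 : (h : G) * w * (h : G)⁻¹ = w := congrArg Subtype.val h2
    calc w * (h : G) = ((h : G) * w * (h : G)⁻¹) * h := by rw [h3]
      _ = h * w := by simp [mul_assoc]
  · apply Matrix.ext_iff_mulVec.2
    intro v
    rw [Matrix.one_mulVec]
    refine ι.injective ((hcol h v).trans ?_)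
    refine Subtype.ext ?_
    change (h : G) * ((ι v).toMul : W) * (h : G)⁻¹ = ((ι v).toMul : W)
    rw [← mem_centralizer_iff.1 hh _ (ι v).toMul.2, mul_inv_cancel_right]
  · refine hcolj h 0 a b e₁ h₁ ?_ hab
    have : (Pi.single (0 : Fin 2) (1 : ZMod p)) = ![((1 : ℕ) : ZMod p), ((0 : ℕ) : ZMod p)] := by
      ext i; fin_cases i <;> simp
    rw [this]
    exact (hf 1 0).trans (congrArg Additive.ofMul (Subtype.ext (by simp)))
  · refine hcolj h 1 a b e₂ h₂ ?_ hab
    have : (Pi.single (1 : Fin 2) (1 : ZMod p)) = ![((0 : ℕ) : ZMod p), ((1 : ℕ) : ZMod p)] := by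
      ext i; fin_cases i <;> simp
    rw [this]
    exact (hf 0 1).trans (congrArg Additive.ofMul (Subtype.ext (by simp)))
  · obtain ⟨v, hv⟩ := hbij.2 (Additive.ofMul ⟨u, hu⟩)
    refine ⟨v, ι.injective ((hcol h v).trans ?_), fun h0 => ?_⟩
    · rw [Nat.cast_smul_eq_nsmul, map_nsmul]
      change c h (f v) = c' • f v
      rw [hv]
      exact congrArg Additive.ofMul (Subtype.ext hc')
    · rw [h0, map_zero] at hv
      exact (congrArg Subtype.val hv).symm

/-- Elements of order dividing `p` act with determinant one. -/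
theorem det_eq_one_of_pow_eq_one {L : Type*} [Group L]
    (φ : L →* Matrix (Fin 2) (Fin 2) (ZMod p)) {h : L} (hh : h ^ p = 1) : (φ h).det = 1 := by
  have h1 := congrArg (fun x => (φ x).det) hh
  simp only [map_pow, map_one, Matrix.det_pow, Matrix.det_one, ZMod.pow_card] at h1
  exact h1

end Cfsg.Agent.H34
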