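import Mathlib.LinearAlgebra.Matrix.GeneralLinearGroup.Card
import Cfsg.Agent.H34.FFStructure
import Cfsg.Agent.H34.PlaneCoord
import Cfsg.Agent.H34.SL2

/-! A group normalising the setup acts on the components; coprime elements fixing a component
centralise it. -/

set_option autoImplicit false

namespace Cfsg.Agent.H34

open Subgroup
open Cfsg
open scoped commutatorElement Pointwise

variable {G : Type*} [Group G] [Finite G] {p : ℕ} [Fact p.Prime] {V H A B : Subgroup G}

/-- Fixed elements made from the conjugates of an element along the orbit of a subgroup. -/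
theorem exists_orbit_product {M : Type*} [Group M] [Finite M] (X E : Subgroup M) {e : M} (he : e ∈ E)
    (hstab : ∀ x ∈ X, MulAut.conj x • E = E → Commute x e)
    (hcomm : ∀ x ∈ X, MulAut.conj x • E ≠ E → Commute e (x * e * x⁻¹)) :
    ∃ r, r ∈ closure {y | ∃ x ∈ X, MulAut.conj x • E ≠ E ∧ y = x * e * x⁻¹} ∧
      ∀ x ∈ X, Commute x (e * r) := by
  classical
  let ι := {E' : Subgroup M // ∃ x ∈ X, MulAut.conj x • E = E'}
  haveI : Fintype ι := Fintype.ofFinite ι
  choose g hgX hgE using fun i : ι => i.2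
  let f : ι → M := fun i => g i * e * (g i)⁻¹
  have hindep : ∀ x ∈ X, ∀ y ∈ X, MulAut.conj x • E = MulAut.conj y • E → x * e * x⁻¹ = y * e * y⁻¹ := by
    intro x hx y hy h
    have h1 : MulAut.conj (y⁻¹ * x) • E = E := by rw [map_mul, mul_smul, h, map_inv, inv_smul_smul]
    have h2 := (hstab _ (mul_mem (inv_mem hy) hx) h1).eq
    calc x * e * x⁻¹ = y * ((y⁻¹ * x) * e) * x⁻¹ := by simp [mul_assoc]
      _ = y * (e * (y⁻¹ * x)) * x⁻¹ := by rw [h2]
      _ = _ := by simp [mul_assoc]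
  have hf : ∀ x (hx : x ∈ X), f ⟨MulAut.conj x • E, x, hx, rfl⟩ = x * e * x⁻¹ := fun x hx =>
    hindep _ (hgX _) x hx (hgE _)
  have hpair : ∀ i j, Commute (f i) (f j) := by
    intro i j
    by_cases hij : MulAut.conj ((g i)⁻¹ * g j) • E = E
    · have : f i = f j := by
        refine hindep _ (hgX i) _ (hgX j) ?_
        rw [map_mul, mul_smul, map_inv, inv_smul_eq_iff] at hij
        exact hij.symm
      rw [this]
    · have h := (hcomm _ (mul_mem (inv_mem (hgX i)) (hgX j)) hij).map (MulAut.conj (g i)).toMonoidHom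
      simpa [f, mul_assoc] using h
  let A' := closure (Set.range f)
  haveI hA' : IsMulCommutative A' := le_centralizer_iff_isMulCommutative.1 (by
    rw [centralizer_closure, closure_le]
    rintro _ ⟨i, rfl⟩ _ ⟨j, rfl⟩
    exact (hpair j i).eq)
  letI : CommGroup A' := { (inferInstance : Group A') with
    mul_comm := fun a b => Subtype.ext (setLike_mul_comm (s := A') a.2 b.2) }
  let fA : ι → A' := fun i => ⟨f i, subset_closure ⟨i, rfl⟩⟩
  let i0 : ι := ⟨E, 1, X.one_mem, by rw [map_one, one_smul]⟩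
  have hi0 : f i0 = e := by
    have h := hindep _ (hgX i0) 1 X.one_mem (by rw [hgE i0, map_one, one_smul])
    simpa [f] using h
  refine ⟨((∏ i ∈ Finset.univ.erase i0, fA i : A') : M), ?_, fun x hx => ?_⟩
  · refine (?_ : ∏ i ∈ Finset.univ.erase i0, fA i ∈
      (closure {y | ∃ x ∈ X, MulAut.conj x • E ≠ E ∧ y = x * e * x⁻¹}).comap A'.subtype)
    refine Subgroup.prod_mem _ fun i hi => mem_comap.2 (subset_closure ⟨g i, hgX i, ?_, rfl⟩)
    rw [hgE i]
    exact fun h => (Finset.mem_erase.1 hi).1 (Subtype.ext h)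
  have hxA : ∀ w ∈ A', x * w * x⁻¹ ∈ A' := by
    intro w hw
    refine (?_ : A' ≤ A'.comap (MulAut.conj x).toMonoidHom) hw
    rw [closure_le]
    rintro _ ⟨i, rfl⟩
    refine subset_closure ⟨⟨MulAut.conj (x * g i) • E, x * g i, mul_mem hx (hgX i), rfl⟩, ?_⟩
    rw [hf _ (mul_mem hx (hgX i))]
    simp [f, mul_assoc]
  let c : A' →* A' := ((MulAut.conj x).toMonoidHom.comp A'.subtype).codRestrict A' fun w => hxA w w.2
  have hσ : ∀ y ∈ X, ∀ i : ι, ∃ z ∈ X, MulAut.conj z • E = MulAut.conj y • (i.1 : Subgroup M) :=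
    fun y hy i => ⟨y * g i, mul_mem hy (hgX i), by rw [map_mul, mul_smul, hgE i]⟩
  let σ : ι ≃ ι :=
    { toFun := fun i => ⟨MulAut.conj x • i.1, hσ x hx i⟩
      invFun := fun i => ⟨MulAut.conj x⁻¹ • i.1, hσ x⁻¹ (X.inv_mem hx) i⟩
      left_inv := fun i => Subtype.ext (by simp [smul_smul, ← map_mul])
      right_inv := fun i => Subtype.ext (by simp [smul_smul, ← map_mul]) }
  have hcσ : ∀ i, c (fA i) = fA (σ i) := by
    intro i
    refine Subtype.ext ?_
    change x * f i * x⁻¹ = f (σ i)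
    have : σ i = ⟨MulAut.conj (x * g i) • E, x * g i, mul_mem hx (hgX i), rfl⟩ :=
      Subtype.ext (show MulAut.conj x • i.1 = MulAut.conj (x * g i) • E by rw [map_mul, mul_smul, hgE i])
    rw [this, hf _ (mul_mem hx (hgX i))]
    simp [f, mul_assoc]
  have htot : c (∏ i, fA i) = ∏ i, fA i := by
    rw [map_prod]
    simp only [hcσ]
    exact Fintype.prod_equiv σ _ _ fun i => rfl
  have h1 : e * ((∏ i ∈ Finset.univ.erase i0, fA i : A') : M) = ((∏ i, fA i : A') : M) := by
    rw [← Finset.mul_prod_erase _ fA (Finset.mem_univ i0), ← hi0]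
    rfl
  rw [h1]
  exact mul_inv_eq_iff_eq_mul.1 (congrArg Subtype.val htot)

namespace FFSetup

variable (S : FFSetup p V H)
include S

/-- Transvection groups are permuted by elements normalising `V` and `H`. -/
theorem isTransvectionGroup_smul (hA : IsTransvectionGroup p V H A) {g : G}
    (hgV : g ∈ normalizer (V : Set G)) (hgH : g ∈ normalizer (H : Set G)) :
    IsTransvectionGroup p V H (MulAut.conj g • A) := by
  obtain ⟨hAH, hcard, hfix⟩ := hA
  refine ⟨?_, (card_map_of_injective (MulAut.conj g).injective).trans hcard, ?_⟩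
  · rintro _ ⟨x, hx, rfl⟩
    exact (mem_normalizer_iff.1 hgH x).1 (hAH hx)
  · have h : V ⊓ centralizer ((MulAut.conj g • A : Subgroup G) : Set G) =
        (V ⊓ centralizer (A : Set G)).map (MulAut.conj g).toMonoidHom := by
      rw [Subgroup.map_inf _ _ _ (MulAut.conj g).injective, map_centralizer]
      congr 1
      exact (H20.conj_smul_eq_of_mem_normalizer hgV).symm
    rw [h, card_map_of_injective (MulAut.conj g).injective, hfix]

/-- Conjugating a component by an element normalising `H`. -/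
theorem conj_compOf' {g : G} (hgH : g ∈ normalizer (H : Set G)) :
    MulAut.conj g • compOf p H A = compOf p H (MulAut.conj g • A) := by
  have hK : MulAut.conj g • coreOf p H = coreOf p H := by
    refine H20.conj_smul_eq_of_mem_normalizer ?_
    rw [mem_normalizer_iff_map_conj_eq, coreOf, Subgroup.map_map]
    have hchar := H19.pPrimeCore_characteristic p ↥H
    conv_rhs => rw [← (characteristic_iff_map_eq.1 hchar (H.normalizerMonoidHom ⟨g, hgH⟩)), Subgroup.map_map]
    rfl
  change (compOf p H A).map (MulAut.conj g).toMonoidHom = _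
  rw [Subgroup.map_sup, Subgroup.map_commutator]
  change ⁅MulAut.conj g • coreOf p H, MulAut.conj g • A⁆ ⊔ MulAut.conj g • A = _
  rw [hK]

/-- The planes of a conjugate component. -/
theorem conj_plane {g : G} (hgV : g ∈ normalizer (V : Set G)) (E : Subgroup G) :
    MulAut.conj g • ⁅V, E⁆ = ⁅V, MulAut.conj g • E⁆ := by
  conv_rhs => rw [← H20.conj_smul_eq_of_mem_normalizer hgV]
  exact Subgroup.map_commutator V E (MulAut.conj g).toMonoidHom

/-- The order of `H` is divisible by six when there is a component. -/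
theorem six_dvd_card (hA : IsTransvectionGroup p V H A) : 6 ∣ Nat.card H := by
  have F := S.compFacts hA
  obtain ⟨e⟩ := F.iso
  refine dvd_trans ?_ (card_dvd_of_le F.le)
  rw [Nat.card_congr e.toEquiv]
  rcases F.prime with h | h <;> subst h
  · rw [SL2.card_sl_two_two]
  · rw [SL2.card_sl_two_three]; norm_num

/-- An element of prime order `q ∤ |H|` fixing a component centralises it and its plane. -/
theorem stabilizer_centralizes (hA : IsTransvectionGroup p V H A) {q : ℕ} (hq : q.Prime)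
    (hqH : ¬ q ∣ Nat.card H) {x : G} (hxq : x ^ q = 1) (hxV : x ∈ normalizer (V : Set G))
    (hxH : x ∈ normalizer (H : Set G))
    (hxE : MulAut.conj x • compOf p H A = compOf p H A) :
    x ∈ centralizer (⁅V, compOf p H A⁆ : Subgroup G) ∧
      x ∈ centralizer ((compOf p H A : Subgroup G) : Set G) := by
  haveI := S.elem.1
  have F := S.compFacts hA
  set E := compOf p H A
  set W := ⁅V, E⁆
  set C₀ := V ⊓ centralizer (E : Set G)
  have hxEn : x ∈ normalizer (E : Set G) := H20.mem_normalizer_of_conj_smul_eq hxE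
  have hxW : x ∈ normalizer (W : Set G) := by
    refine H20.mem_normalizer_of_conj_smul_eq ?_
    rw [S.conj_plane hxV, hxE]
  have hxC₀ : x ∈ normalizer (C₀ : Set G) :=
    H20.le_normalizer_inf (Subgroup.zpowers_le.2 hxV)
      (H20.le_normalizer_centralizer (Subgroup.zpowers_le.2 hxEn)) (mem_zpowers x)
  have hWe : IsElementaryAbelian p W := isElementaryAbelian_mono S.elem F.moduleLe
  have hp := (Fact.out : p.Prime)
  have hxW1 : x ∈ centralizer (W : Set G) := by
    obtain ⟨e₁, e₂, h₁, h₂, hgen⟩ : ∃ e₁ e₂, e₁ ∈ W ∧ e₂ ∈ W ∧ W ≤ zpowers e₁ ⊔ zpowers e₂ := by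
      obtain ⟨u, hu, hu1⟩ := W.bot_or_exists_ne_one.resolve_left (fun h => by
        have hc : Nat.card ↥W = p ^ 2 := F.card
        rw [h, Subgroup.card_bot] at hc; exact (Nat.one_lt_pow (by norm_num) hp.one_lt).ne hc)
      obtain ⟨w, hw, hwu⟩ : ∃ w ∈ W, w ∉ zpowers u := by
        by_contra h
        have hle : W ≤ zpowers u := fun w hw => by_contra fun hn => h ⟨w, hw, hn⟩
        have := card_le_of_le hle
        rw [F.card, Nat.card_zpowers, orderOf_eq_prime (hWe.2 u hu) hu1, sq] at this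
        exact absurd this (Nat.not_le.2 (lt_mul_of_one_lt_right hp.pos hp.one_lt))
      refine ⟨u, w, hu, hw, (eq_of_le_of_card_ge (sup_le (zpowers_le.2 hu) (zpowers_le.2 hw)) (le_of_eq ?_)).ge⟩
      have huw : w ∈ centralizer ((zpowers u : Subgroup G) : Set G) := fun z hz =>
        setLike_mul_comm (s := V) (F.moduleLe (zpowers_le.2 hu hz)) (F.moduleLe hw)
      rw [card_sup_zpowers (centralizer_le_normalizer _ huw) (hWe.2 w hw) hwu, Nat.card_zpowers,
        orderOf_eq_prime (hWe.2 u hu) hu1, F.card, sq]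
    obtain ⟨φ, hker, -, -, -⟩ := exists_planeHom hWe F.card h₁ h₂ hgen
    let u := φ.toHomUnits
    refine (hker ⟨x, hxW⟩).1 ?_
    by_contra hne
    have hord : orderOf (u ⟨x, hxW⟩) = q := by
      haveI := Fact.mk hq
      refine orderOf_eq_prime ?_ fun h => hne (congrArg Units.val h)
      rw [← map_pow, show (⟨x, hxW⟩ : normalizer (W : Set G)) ^ q = 1 from Subtype.ext hxq, map_one]
    have hdvd : q ∣ Nat.card (GL (Fin 2) (ZMod p)) := hord ▸ orderOf_dvd_natCard (u ⟨x, hxW⟩)
    have h6 := S.six_dvd_card hA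
    have hq2 : q ≠ 2 := fun h => hqH (h ▸ dvd_trans (by norm_num) h6)
    have hq3 : q ≠ 3 := fun h => hqH (h ▸ dvd_trans (by norm_num) h6)
    rw [Matrix.card_GL_field, Fin.prod_univ_two, ZMod.card] at hdvd
    rcases F.prime with h | h <;> subst h <;> norm_num at hdvd
    · have : q ∣ 2 * 3 := hdvd
      rcases hq.dvd_mul.1 this with h | h
      · exact hq2 ((Nat.prime_dvd_prime_iff_eq hq Nat.prime_two).1 h)
      · exact hq3 ((Nat.prime_dvd_prime_iff_eq hq Nat.prime_three).1 h)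
    · have : q ∣ 2 ^ 4 * 3 := hdvd
      rcases hq.dvd_mul.1 this with h | h
      · exact hq2 ((Nat.prime_dvd_prime_iff_eq hq Nat.prime_two).1 (hq.dvd_of_dvd_pow h))
      · exact hq3 ((Nat.prime_dvd_prime_iff_eq hq Nat.prime_three).1 h)
  refine ⟨hxW1, ?_⟩
  intro e he
  suffices h : ⁅e, x⁆ ∈ H ⊓ centralizer (V : Set G) by
    rw [S.faithful, mem_bot, commutatorElement_eq_one_iff_mul_comm] at h
    exact h
  refine mem_inf.2 ⟨?_, ?_⟩
  · rw [commutatorElement_def, mul_assoc, mul_assoc]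
    refine H.mul_mem (F.le he) ?_
    rw [← mul_assoc]
    exact (mem_normalizer_iff.1 hxH e⁻¹).1 (H.inv_mem (F.le he))
  rw [← F.sup, centralizer_sup_eq]
  have hxw : ∀ w ∈ W, x * w * x⁻¹ = w := fun w hw => by rw [← hxW1 w hw, mul_inv_cancel_right]
  have hxw' : ∀ w ∈ W, x⁻¹ * w * x = w := fun w hw => by
    rw [mul_assoc, hxW1 w hw, inv_mul_cancel_left]
  have heC : ∀ u ∈ C₀, e * u * e⁻¹ = u := fun u hu => by rw [hu.2 e he, mul_inv_cancel_right]
  have heC' : ∀ u ∈ C₀, e⁻¹ * u * e = u := fun u hu => by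
    rw [mul_assoc, ← hu.2 e he, inv_mul_cancel_left]
  have step : ∀ u : G, ⁅⁅e, x⁆, u⁆ = 1 → u * ⁅e, x⁆ = ⁅e, x⁆ * u := fun u h =>
    (commutatorElement_eq_one_iff_mul_comm.1 h).symm
  refine mem_inf.2 ⟨fun u hu => step u ?_, fun u hu => step u ?_⟩
  · have hu' : e⁻¹ * u * e ∈ W := by
      have := conj_mem_of_mem_normalizer (normalizer_commutator_ge_right V E (inv_mem he)) hu
      simpa using this
    calc ⁅⁅e, x⁆, u⁆ = e * (x * (e⁻¹ * (x⁻¹ * u * x) * e) * x⁻¹) * e⁻¹ * u⁻¹ := by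
          simp [commutatorElement_def, mul_assoc]
      _ = e * (e⁻¹ * u * e) * e⁻¹ * u⁻¹ := by rw [hxw' u hu, hxw _ hu']
      _ = 1 := by simp [mul_assoc]
  · have hu' : x⁻¹ * u * x ∈ C₀ := by
      have := conj_mem_of_mem_normalizer (inv_mem hxC₀) hu
      simpa using this
    calc ⁅⁅e, x⁆, u⁆ = e * (x * (e⁻¹ * (x⁻¹ * u * x) * e) * x⁻¹) * e⁻¹ * u⁻¹ := by
          simp [commutatorElement_def, mul_assoc]
      _ = e * (x * (x⁻¹ * u * x) * x⁻¹) * e⁻¹ * u⁻¹ := by rw [heC' _ hu']
      _ = (e * u * e⁻¹) * u⁻¹ := by simp [mul_assoc]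
      _ = 1 := by rw [heC u hu, mul_inv_cancel]

variable (hgen : H = ⨆ A : {A : Subgroup G // A ≤ H ∧ IsBestOffenderOn p V A}, (A : Subgroup G))
include hgen

/-- Different components commute and fix each other's planes. -/
theorem comp_commute (hA : IsTransvectionGroup p V H A) (hB : IsTransvectionGroup p V H B)
    (hne : compOf p H A ≠ compOf p H B) :
    ⁅V, compOf p H A⁆ ≤ centralizer ((compOf p H B : Subgroup G) : Set G) ∧
      compOf p H B ≤ centralizer ((compOf p H A : Subgroup G) : Set G) := by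
  haveI := S.elem.1
  have FA := S.compFacts hA
  have FB := S.compFacts hB
  obtain ⟨hEq, hdis⟩ := S.comp_eq_or_disjoint hA hB
  have h1 : ⁅V, compOf p H A⁆ ≤ centralizer ((compOf p H B : Subgroup G) : Set G) := by
    rw [← Subgroup.commutator_eq_bot_iff_le_centralizer, eq_bot_iff, ← hdis fun h => hne (hEq h)]
    exact le_inf (le_normalizer_iff_commutator_le_left.1 (FB.le.trans (S.le_normalizer_comp hgen hA).2))
      (commutator_mono FA.moduleLe le_rfl)
  refine ⟨h1, ?_⟩
  obtain ⟨hc, -, -, -⟩ := S.comp_direct_factor hgen hA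
  refine le_centralizer_iff.1 ((Subgroup.commutator_eq_bot_iff_le_centralizer.1 hc).trans (centralizer_le ?_))
  exact SetLike.coe_subset_coe.2 (le_inf FB.le (le_centralizer_iff.1 h1))

/-- The elements of a component give elements commuting with `X`. -/
theorem exists_fixed_mul (hA : IsTransvectionGroup p V H A) (X : Subgroup G)
    (hXV : X ≤ normalizer (V : Set G)) (hXH : X ≤ normalizer (H : Set G)) {q : ℕ} (hq : q.Prime)
    (hqH : ¬ q ∣ Nat.card H) (hXq : ∀ x ∈ X, x ^ q = 1) {e : G} (he : e ∈ compOf p H A) :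
    ∃ r ∈ H, r ∈ centralizer ((compOf p H A : Subgroup G) : Set G) ∧
      r ∈ centralizer ((⁅V, compOf p H A⁆ : Subgroup G) : Set G) ∧ e * r ∈ centralizer (X : Set G) := by
  obtain ⟨r, hr, hfix⟩ := exists_orbit_product X (compOf p H A) he
    (fun x hx hxE => ((S.stabilizer_centralizes hA hq hqH (hXq x hx) (hXV hx) (hXH hx) hxE).2 e he).symm)
    (fun x hx hne => by
      have hxe : x * e * x⁻¹ ∈ MulAut.conj x • compOf p H A := ⟨e, he, rfl⟩
      rw [S.conj_compOf' (hXH hx)] at hxe hne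
      exact (S.comp_commute hgen hA (S.isTransvectionGroup_smul hA (hXV hx) (hXH hx))
        (Ne.symm hne)).2 hxe e he)
  refine ⟨r, ?_, ?_, ?_, fun x hx => (hfix x hx).eq⟩
  rotate_left 2
  · refine (closure_le (K := centralizer ((⁅V, compOf p H A⁆ : Subgroup G) : Set G))).2 ?_ hr
    rintro _ ⟨x, hx, hne, rfl⟩
    have hxe : x * e * x⁻¹ ∈ MulAut.conj x • compOf p H A := ⟨e, he, rfl⟩
    rw [S.conj_compOf' (hXH hx)] at hxe hne
    exact le_centralizer_iff.1
      (S.comp_commute hgen hA (S.isTransvectionGroup_smul hA (hXV hx) (hXH hx)) (Ne.symm hne)).1 hxe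
  · refine (closure_le (K := H)).2 ?_ hr
    rintro _ ⟨x, hx, -, rfl⟩
    exact (mem_normalizer_iff.1 (hXH hx) e).1 ((S.compFacts hA).le he)
  · refine (closure_le (K := centralizer ((compOf p H A : Subgroup G) : Set G))).2 ?_ hr
    rintro _ ⟨x, hx, hne, rfl⟩
    have hxe : x * e * x⁻¹ ∈ MulAut.conj x • compOf p H A := ⟨e, he, rfl⟩
    rw [S.conj_compOf' (hXH hx)] at hxe hne
    exact (S.comp_commute hgen hA (S.isTransvectionGroup_smul hA (hXV hx) (hXH hx)) (Ne.symm hne)).2 hxe

/-- A vector of the plane gives a vector commuting with `X`, with the same image modulo the fixed points. -/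
theorem exists_fixed_vector (hA : IsTransvectionGroup p V H A) (X : Subgroup G)
    (hXV : X ≤ normalizer (V : Set G)) (hXH : X ≤ normalizer (H : Set G)) {q : ℕ} (hq : q.Prime)
    (hqH : ¬ q ∣ Nat.card H) (hXq : ∀ x ∈ X, x ^ q = 1) {w : G} (hw : w ∈ ⁅V, compOf p H A⁆) :
    ∃ r ∈ (⨆ (x : G) (_ : x ∈ X) (_ : MulAut.conj x • compOf p H A ≠ compOf p H A),
        MulAut.conj x • ⁅V, compOf p H A⁆),
      r ∈ V ⊓ centralizer ((compOf p H A : Subgroup G) : Set G) ∧ w * r ∈ centralizer (X : Set G) := by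
  haveI := S.elem.1
  have F := S.compFacts hA
  obtain ⟨r, hr, hfix⟩ := exists_orbit_product X ⁅V, compOf p H A⁆ hw
    (fun x hx hxW => by
      have hxE : MulAut.conj x • compOf p H A = compOf p H A := by
        rw [S.conj_compOf' (hXH hx)]
        refine ((S.comp_eq_or_disjoint hA (S.isTransvectionGroup_smul hA (hXV hx) (hXH hx))).1 ?_).symm
        rw [← S.conj_compOf' (hXH hx), ← S.conj_plane (hXV hx), hxW]
      exact ((S.stabilizer_centralizes hA hq hqH (hXq x hx) (hXV hx) (hXH hx) hxE).1 w hw).symm)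
    (fun x hx _ => setLike_mul_comm (s := V) (F.moduleLe hw)
      ((mem_normalizer_iff.1 (hXV hx) w).1 (F.moduleLe hw)))
  have hne' : ∀ x ∈ X, MulAut.conj x • ⁅V, compOf p H A⁆ ≠ ⁅V, compOf p H A⁆ →
      MulAut.conj x • compOf p H A ≠ compOf p H A := fun x hx hne h =>
    hne (by rw [S.conj_plane (hXV hx), h])
  refine ⟨r, ?_, ?_, fun x hx => (hfix x hx).eq⟩
  · refine (closure_le _).2 ?_ hr
    rintro _ ⟨x, hx, hne, rfl⟩
    exact mem_iSup_of_mem x (mem_iSup_of_mem hx (mem_iSup_of_mem (hne' x hx hne) ⟨w, hw, rfl⟩))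
  · refine (closure_le (K := V ⊓ centralizer ((compOf p H A : Subgroup G) : Set G))).2 ?_ hr
    rintro _ ⟨x, hx, hne, rfl⟩
    have hxe : x * w * x⁻¹ ∈ MulAut.conj x • ⁅V, compOf p H A⁆ := ⟨w, hw, rfl⟩
    have hne2 := hne' x hx hne
    rw [S.conj_plane (hXV hx), S.conj_compOf' (hXH hx)] at hxe
    rw [S.conj_compOf' (hXH hx)] at hne2
    exact mem_inf.2 ⟨(mem_normalizer_iff.1 (hXV hx) w).1 (F.moduleLe hw),
      (S.comp_commute hgen (S.isTransvectionGroup_smul hA (hXV hx) (hXH hx)) hA hne2).1 hxe⟩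

/-- A plane commuting with `X`, on which the fixed elements of `H` act as the component does. -/
theorem exists_fixed_plane (hA : IsTransvectionGroup p V H A) (X : Subgroup G)
    (hXV : X ≤ normalizer (V : Set G)) (hXH : X ≤ normalizer (H : Set G)) {q : ℕ} (hq : q.Prime)
    (hqH : ¬ q ∣ Nat.card H) (hXq : ∀ x ∈ X, x ^ q = 1) :
    ∃ W' : Subgroup G, W' ≤ V ⊓ centralizer (X : Set G) ∧ Nat.card W' = p ^ 2 ∧
      H ⊓ centralizer (X : Set G) ≤ normalizer (W' : Set G) ∧
      ∀ d ∈ H ⊓ centralizer (X : Set G),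
        d ∈ centralizer (W' : Set G) ↔ d ∈ centralizer ((⁅V, compOf p H A⁆ : Subgroup G) : Set G) := by
  haveI := S.elem.1
  have F := S.compFacts hA
  set E := compOf p H A
  set W := ⁅V, E⁆
  set C₀ := V ⊓ centralizer (E : Set G)
  have hA' : ∀ x ∈ X, IsTransvectionGroup p V H (MulAut.conj x • A) := fun x hx =>
    S.isTransvectionGroup_smul hA (hXV hx) (hXH hx)
  have hWx : ∀ x ∈ X, MulAut.conj x • W = ⁅V, compOf p H (MulAut.conj x • A)⁆ := fun x hx => by
    rw [S.conj_plane (hXV hx), S.conj_compOf' (hXH hx)]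
  set O := ⨆ (x : G) (_ : x ∈ X), MulAut.conj x • W
  set L := ⨆ (x : G) (_ : x ∈ X), ⁅coreOf p H, MulAut.conj x • A⁆
  have hLK : L ≤ coreOf p H :=
    iSup₂_le fun x hx => (S.le_normalizer_commutator_core (hA' x hx)).2.2
  have hOL : O ≤ ⁅V, L⁆ := iSup₂_le fun x hx => by
    rw [hWx x hx, ← (S.compFacts (hA' x hx)).comm]
    exact commutator_mono le_rfl (le_iSup₂ (f := fun x (_ : x ∈ X) => ⁅coreOf p H, MulAut.conj x • A⁆) x hx)
  have hcop : (Nat.card L).Coprime (Nat.card V) := by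
    obtain ⟨k, hk⟩ := IsPGroup.iff_card.1 (IsPGroup_of_isElementaryAbelian S.elem)
    rw [hk]
    exact (coreOf_coprime.coprime_dvd_left (card_dvd_of_le hLK)).pow_right k
  obtain ⟨hinfL, -⟩ := H20.abelian_decomposition (hLK.trans (coreOf_le.trans S.norm)) hcop
  have hOV : O ≤ V := hOL.trans (le_normalizer_iff_commutator_le_left.1 (hLK.trans (coreOf_le.trans S.norm)))
  set W' := O ⊓ centralizer (X : Set G)
  -- a fixed vector of the orbit centralising `E` is trivial
  have hinj : ∀ u ∈ W', u ∈ centralizer (E : Set G) → u = 1 := by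
    intro u hu huE
    have huX := hu.2
    have hall : L ≤ centralizer (Set.singleton u) := iSup₂_le fun x hx => by
      refine (le_sup_left : ⁅coreOf p H, MulAut.conj x • A⁆ ≤ compOf p H (MulAut.conj x • A)).trans ?_
      change compOf p H (MulAut.conj x • A) ≤ _
      rw [← S.conj_compOf' (hXH hx)]
      rintro _ ⟨e, he, rfl⟩ v hv
      have hv' : v = u := hv
      subst hv'
      have h1 : x * v = v * x := huX x hx
      have h2 : x⁻¹ * v = v * x⁻¹ := huX x⁻¹ (X.inv_mem hx)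
      change v * (x * e * x⁻¹) = x * e * x⁻¹ * v
      calc v * (x * e * x⁻¹) = (v * x) * e * x⁻¹ := by simp [mul_assoc]
        _ = x * (v * e) * x⁻¹ := by rw [← h1]; simp [mul_assoc]
        _ = x * e * (v * x⁻¹) := by rw [← huE e he]; simp [mul_assoc]
        _ = _ := by rw [← h2]; simp [mul_assoc]
    have h : u ∈ ⁅V, L⁆ ⊓ (V ⊓ centralizer (L : Set G)) :=
      mem_inf.2 ⟨hOL hu.1, mem_inf.2 ⟨hOV hu.1, fun l hl => (hall hl u rfl).symm⟩⟩
    rw [inf_comm] at h
    rw [hinfL] at h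
    exact h
  have hC₀N : ∀ d ∈ H, d ∈ normalizer (C₀ : Set G) := fun d hd =>
    H20.le_normalizer_inf S.norm (H20.le_normalizer_centralizer (S.le_normalizer_comp hgen hA).1) hd
  have hWV : W ≤ V := F.moduleLe
  have hfix : ∀ w : W, ∃ u : W', (w : G)⁻¹ * u ∈ C₀ := by
    intro w
    obtain ⟨r, hr, hrC, hrX⟩ := S.exists_fixed_vector hgen hA X hXV hXH hq hqH hXq w.2
    have hrO : r ∈ O := (iSup₂_le fun x hx => iSup_le fun _ =>
      le_iSup₂ (f := fun x (_ : x ∈ X) => MulAut.conj x • W) x hx : _ ≤ O) hr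
    have hwO : (w : G) ∈ O := mem_iSup_of_mem 1 (mem_iSup_of_mem X.one_mem (by simpa using w.2))
    exact ⟨⟨_, mem_inf.2 ⟨O.mul_mem hwO hrO, hrX⟩⟩, by rw [inv_mul_cancel_left]; exact hrC⟩
  choose f hf using hfix
  have hfbij : Function.Bijective f := by
    refine ⟨fun w₁ w₂ h => ?_, fun u => ?_⟩
    · have h1 : (w₁ : G)⁻¹ * w₂ ∈ W ⊓ C₀ := by
        refine mem_inf.2 ⟨W.mul_mem (W.inv_mem w₁.2) w₂.2, ?_⟩
        have := C₀.mul_mem (h ▸ hf w₁) (C₀.inv_mem (hf w₂))
        simpa [mul_assoc] using this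
      rw [F.inf, mem_bot, inv_mul_eq_one] at h1
      exact Subtype.ext h1
    · have hu : (u : G) ∈ (W : Set G) * (C₀ : Set G) := by
        have hN : C₀ ≤ normalizer (W : Set G) :=
          (inf_le_left.trans ((le_centralizer V).trans (centralizer_le hWV))).trans (centralizer_le_normalizer _)
        rw [← Subgroup.coe_mul_of_right_le_normalizer_left _ _ hN, F.sup]
        exact hOV u.2.1
      obtain ⟨w, hw, c, hc, hwc⟩ := Set.mem_mul.1 hu
      refine ⟨⟨w, hw⟩, ?_⟩
      have h1 : ((f ⟨w, hw⟩ : W') : G)⁻¹ * (u : G) ∈ C₀ := by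
        have := C₀.mul_mem (C₀.inv_mem (hf ⟨w, hw⟩)) hc
        simpa [← hwc, mul_assoc] using this
      exact Subtype.ext (inv_mul_eq_one.1 (hinj _ (W'.mul_mem (W'.inv_mem (f ⟨w, hw⟩).2) u.2) h1.2))
  have hnorm : H ⊓ centralizer (X : Set G) ≤ normalizer (W' : Set G) := by
    have hsub : ∀ d ∈ H ⊓ centralizer (X : Set G), ∀ u ∈ W', d * u * d⁻¹ ∈ W' := by
      intro d hd u hu
      refine mem_inf.2 ⟨?_, fun x hx => ?_⟩
      · have h : O.map (MulAut.conj d).toMonoidHom ≤ O := by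
          simp only [O, Subgroup.map_iSup]
          refine iSup₂_le fun x hx => le_trans (le_of_eq ?_)
            (le_iSup₂ (f := fun x (_ : x ∈ X) => MulAut.conj x • W) x hx)
          have hdn : d ∈ normalizer ((MulAut.conj x • W : Subgroup G) : Set G) := by
            rw [hWx x hx]; exact (S.le_normalizer_comp hgen (hA' x hx)).2 hd.1
          exact mem_normalizer_iff_map_conj_eq.1 hdn
        exact h (mem_map_of_mem _ hu.1)
      · have h1 : x * d = d * x := hd.2 x hx
        have h2 : x * u = u * x := hu.2 x hx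
        exact ((Commute.mul_right (show Commute x d from h1) (show Commute x u from h2)).mul_right
          ((show Commute x d from h1).inv_right)).eq
    intro d hd
    rw [mem_normalizer_iff]
    refine fun u => ⟨hsub d hd u, fun h => ?_⟩
    have := hsub d⁻¹ (inv_mem hd) _ h
    simpa [mul_assoc] using this
  refine ⟨W', le_inf (inf_le_left.trans hOV) inf_le_right, ?_, hnorm, fun d hd => ?_⟩
  · rw [← F.card]
    exact (Nat.card_congr (Equiv.ofBijective f hfbij)).symm
  have hdN := hC₀N d hd.1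
  constructor
  · intro hdW w hw
    have hu := (f ⟨w, hw⟩).2
    have hc := hf ⟨w, hw⟩
    set c := (w : G)⁻¹ * ((f ⟨w, hw⟩ : W') : G)
    have hu' : (w * c) * d = d * (w * c) := by
      have := hdW _ hu
      simpa [c] using this
    have hdw : d * w * d⁻¹ ∈ W := (mem_normalizer_iff.1 ((S.le_normalizer_comp hgen hA).2 hd.1) w).1 hw
    have hdc : d * c * d⁻¹ ∈ C₀ := (mem_normalizer_iff.1 hdN c).1 hc
    have heq : w⁻¹ * (d * w * d⁻¹) = c * (d * c * d⁻¹)⁻¹ := by
      calc w⁻¹ * (d * w * d⁻¹) = w⁻¹ * (d * (w * c)) * d⁻¹ * (d * c⁻¹ * d⁻¹) := by simp [mul_assoc]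
        _ = w⁻¹ * ((w * c) * d) * d⁻¹ * (d * c⁻¹ * d⁻¹) := by rw [hu']
        _ = _ := by simp [mul_assoc]
    have h : w⁻¹ * (d * w * d⁻¹) ∈ W ⊓ C₀ :=
      mem_inf.2 ⟨W.mul_mem (W.inv_mem hw) hdw, heq ▸ C₀.mul_mem hc (C₀.inv_mem hdc)⟩
    rw [F.inf, mem_bot, inv_mul_eq_one] at h
    exact (mul_inv_eq_iff_eq_mul.1 h.symm).symm
  · intro hdW u hu
    obtain ⟨⟨w, hw⟩, hfw⟩ := hfbij.2 ⟨u, hu⟩
    have hc := hf ⟨w, hw⟩
    rw [hfw] at hc
    change w⁻¹ * u ∈ C₀ at hc
    have hdw : d * w * d⁻¹ = w := by rw [← hdW w hw, mul_inv_cancel_right]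
    have h1 : u⁻¹ * (d * u * d⁻¹) ∈ C₀ := by
      have h2 := C₀.mul_mem (C₀.inv_mem hc) ((mem_normalizer_iff.1 hdN _).1 hc)
      have heq : u⁻¹ * (d * u * d⁻¹) = (w⁻¹ * u)⁻¹ * (d * (w⁻¹ * u) * d⁻¹) := by
        calc u⁻¹ * (d * u * d⁻¹) = u⁻¹ * (d * w * d⁻¹) * (d * (w⁻¹ * u) * d⁻¹) := by simp [mul_assoc]
          _ = _ := by rw [hdw]; simp [mul_assoc]
      rwa [heq]
    have h3 := hinj _ (W'.mul_mem (W'.inv_mem hu) ((mem_normalizer_iff.1 (hnorm hd) u).1 hu)) h1.2
    exact (mul_inv_eq_iff_eq_mul.1 (inv_mul_eq_one.1 h3).symm).symm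

end FFSetup

end Cfsg.Agent.H34
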