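import Cfsg.Agent.H19.Cores
import Cfsg.Agent.H20.PxQ
import Cfsg.Agent.H20.Generation
import Cfsg.Agent.H34.Stab

/-! Faithful groups with self-centralising `p'`-core: offender numbers are at most `|V|`, best
offenders are generated by transvection groups. -/

set_option autoImplicit false

namespace Cfsg.Agent.H34

open Subgroup
open Cfsg
open scoped commutatorElement Pointwise

variable {G : Type*} [Group G] {p : ℕ} {V H A B : Subgroup G}

/-- `H` acts faithfully on the elementary abelian `V` and `O_{p'}(H)` contains its centraliser in `H`. -/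
structure FFSetup (p : ℕ) (V H : Subgroup G) : Prop where
  elem : IsElementaryAbelian p V
  norm : H ≤ normalizer (V : Set G)
  faithful : H ⊓ centralizer (V : Set G) = ⊥
  selfCentral : centralizer (pPrimeCore p ↥H : Set ↥H) ≤ pPrimeCore p ↥H

/-- The `p'`-core of `H` inside `G`. -/
abbrev coreOf (p : ℕ) (H : Subgroup G) : Subgroup G := (pPrimeCore p ↥H).map H.subtype

/-- A subgroup of order `p` of `H` fixing a hyperplane of `V`. -/
def IsTransvectionGroup (p : ℕ) (V H A : Subgroup G) : Prop :=
  A ≤ H ∧ Nat.card A = p ∧ Nat.card ↥(V ⊓ centralizer (A : Set G)) * p = Nat.card V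

/-- The core lies in `H`. -/
theorem coreOf_le : coreOf p H ≤ H := map_subtype_le _

/-- `H` normalises the core. -/
theorem le_normalizer_coreOf : H ≤ normalizer ((coreOf p H : Subgroup G) : Set G) := by
  intro h hh
  rw [mem_normalizer_iff]
  have hn := H19.pPrimeCore_normal p ↥H
  have key : ∀ g ∈ H, ∀ x ∈ coreOf p H, g * x * g⁻¹ ∈ coreOf p H := by
    rintro g hg _ ⟨y, hy, rfl⟩
    exact ⟨_, hn.conj_mem y hy ⟨g, hg⟩, rfl⟩
  intro x
  refine ⟨key h hh x, fun hx => ?_⟩
  have := key h⁻¹ (H.inv_mem hh) _ hx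
  simpa [mul_assoc] using this

/-- The order of the core is prime to `p`. -/
theorem coreOf_coprime [Finite G] : (Nat.card (coreOf p H)).Coprime p := by
  rw [card_map_of_injective H.subtype_injective]
  exact H19.pPrimeCore_coprime p

namespace FFSetup

variable [Finite G] [Fact p.Prime] (S : FFSetup p V H)
include S

/-- A `p`-subgroup of `H` centralising the core is trivial. -/
theorem eq_bot_of_centralizes (hA : A ≤ H) (hAp : IsPGroup p A)
    (hc : ⁅coreOf p H, A⁆ = ⊥) : A = ⊥ := by
  have h1 : A ≤ coreOf p H := by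
    intro a ha
    refine ⟨⟨a, hA ha⟩, S.selfCentral ?_, rfl⟩
    intro k hk
    refine Subtype.ext (commutatorElement_eq_one_iff_mul_comm.1 ?_)
    rw [← mem_bot, ← hc]
    exact commutator_mem_commutator (mem_map_of_mem _ hk) ha
  rw [← inf_of_le_left h1]
  exact H19.inf_eq_bot_of_isPGroup_coprime hAp coreOf_coprime

/-- Abelian modulo the centraliser of `V` means abelian. -/
theorem isElementaryAbelian_of_bestOffender (hA : A ≤ H) (hAb : IsBestOffenderOn p V A) :
    IsElementaryAbelian p A := by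
  refine ⟨Subgroup.commutator_self_eq_bot_iff.1 ?_, fun a ha => ?_⟩
  · rw [eq_bot_iff, ← S.faithful]
    exact le_inf (commutator_le.2 fun x hx y hy => by
      rw [commutatorElement_def]
      exact H.mul_mem (H.mul_mem (H.mul_mem (hA hx) (hA hy)) (H.inv_mem (hA hx))) (H.inv_mem (hA hy)))
      hAb.2.1
  · rw [← mem_bot, ← S.faithful]
    exact ⟨H.pow_mem (hA ha) p, hAb.2.2 a ha⟩

/-- If `B ≤ A` has the same fixed points then `A` centralises the fixed points of `B` in the core. -/
theorem commutator_fixed_core_eq_bot (hA : A ≤ H) (hAe : IsElementaryAbelian p A) (hBA : B ≤ A)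
    (hC : V ⊓ centralizer (B : Set G) ≤ centralizer (A : Set G)) :
    ⁅coreOf p H ⊓ centralizer (B : Set G), A⁆ = ⊥ := by
  haveI := hAe.1
  haveI := S.elem.1
  set KB := coreOf p H ⊓ centralizer (B : Set G)
  set Q := ⁅KB, A⁆
  have hAK : A ≤ normalizer ((coreOf p H : Subgroup G) : Set G) := hA.trans le_normalizer_coreOf
  have hAB : A ≤ normalizer (B : Set G) :=
    ((le_centralizer A).trans (centralizer_le hBA)).trans (centralizer_le_normalizer _)
  have hQKB : Q ≤ KB := H20.commutator_le_of_le_normalizer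
    (H20.le_normalizer_inf hAK (H20.le_normalizer_centralizer hAB))
  have hQH : Q ≤ H := hQKB.trans (inf_le_left.trans coreOf_le)
  have hQC : V ⊓ centralizer (B : Set G) ≤ centralizer (Q : Set G) := by
    rw [le_centralizer_iff, commutator_le]
    rintro k ⟨hk, hkB⟩ a ha
    rw [mem_centralizer_iff]
    rintro u ⟨huV, huB⟩
    have hu' : k⁻¹ * u * k ∈ V ⊓ centralizer (B : Set G) := by
      refine ⟨(mem_normalizer_iff''.1 (S.norm (coreOf_le hk)) u).1 huV, fun b hb => ?_⟩
      have h1 := hkB b hb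
      have h2 := huB b hb
      have h3 := (centralizer (B : Set G)).inv_mem hkB b hb
      calc b * (k⁻¹ * u * k) = (b * k⁻¹) * u * k := by simp [mul_assoc]
        _ = k⁻¹ * (b * u) * k := by rw [h3]; simp [mul_assoc]
        _ = k⁻¹ * u * (b * k) := by rw [h2]; simp [mul_assoc]
        _ = _ := by rw [h1]; simp [mul_assoc]
    have e1 := hC hu' a ha
    have e2 := hC ⟨huV, huB⟩ a ha
    refine (commutatorElement_eq_one_iff_mul_comm.1 ?_).symm
    have e3 : a⁻¹ * u * a = u := by rw [mul_assoc, ← e2, inv_mul_cancel_left]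
    have e4 : a * (k⁻¹ * u * k) * a⁻¹ = k⁻¹ * u * k := by rw [e1, mul_inv_cancel_right]
    calc ⁅⁅k, a⁆, u⁆ = k * (a * (k⁻¹ * (a⁻¹ * u * a) * k) * a⁻¹) * k⁻¹ * u⁻¹ := by
          simp [commutatorElement_def, mul_assoc]
      _ = k * (k⁻¹ * u * k) * k⁻¹ * u⁻¹ := by rw [e3, e4]
      _ = 1 := by simp [mul_assoc]
  have hle : Q ≤ centralizer (V : Set G) :=
    H20.p_times_q (P := B) (U := V)
      (IsPGroup_of_isElementaryAbelian (isElementaryAbelian_mono hAe hBA))
      (coreOf_coprime.coprime_dvd_left (card_dvd_of_le (hQKB.trans inf_le_left)))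
      (IsPGroup_of_isElementaryAbelian S.elem)
      (le_centralizer_iff.1 (hQKB.trans inf_le_right))
      (hBA.trans (hA.trans S.norm)) (hQH.trans S.norm) hQC
  rw [eq_bot_iff, ← S.faithful]
  exact le_inf hQH hle

/-- A nontrivial elementary abelian `p`-subgroup has a cocyclic subgroup on whose core fixed
points it acts nontrivially, unless it is cyclic. -/
theorem fixed_core_le (hA : A ≤ H) (hAe : IsElementaryAbelian p A) (hnc : ¬ IsCyclic A)
    {L : Subgroup G}
    (hL : ∀ B ≤ A, B ≠ A → Nat.card A ≤ p * Nat.card B → coreOf p H ⊓ centralizer (B : Set G) ≤ L) :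
    coreOf p H ≤ L := by
  suffices main : ∀ (n : ℕ) (A : Subgroup G), Nat.card A = n → A ≤ H → IsElementaryAbelian p A →
      ¬ IsCyclic A → ∀ K : Subgroup G, K ≤ coreOf p H → A ≤ normalizer (K : Set G) →
      (∀ B ≤ A, B ≠ A → Nat.card A ≤ p * Nat.card B → K ⊓ centralizer (B : Set G) ≤ L) → K ≤ L from
    main _ A rfl hA hAe hnc _ le_rfl (hA.trans le_normalizer_coreOf) hL
  intro n
  induction n using Nat.strong_induction_on with
  | _ n ih =>
    intro A hn hA hAe hnc K hK hAK hL
    haveI := hAe.1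
    obtain ⟨k, hk⟩ := IsPGroup.iff_card.1 (IsPGroup_of_isElementaryAbelian hAe)
    have hcop : (Nat.card A).Coprime (Nat.card K) := by
      rw [hk]
      exact ((coreOf_coprime.coprime_dvd_left (card_dvd_of_le hK)).pow_right k).symm
    refine H20.le_of_centralizers_le hnc hAK hcop fun a ha ha1 => ?_
    obtain ⟨B, hBA, haB, hBa⟩ := exists_sup_zpowers_eq hAe ha ha1
    have hBne : B ≠ A := fun h => haB (h ▸ ha)
    have hap : Nat.card (zpowers a) = p := by
      rw [Nat.card_zpowers]; exact orderOf_eq_prime (hAe.2 a ha) ha1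
    have hzA : zpowers a ≤ A := zpowers_le.2 ha
    by_cases hBc : IsCyclic B
    · obtain ⟨b, hb⟩ := Subgroup.isCyclic_iff_exists_zpowers_eq_top B |>.1 hBc
      have hbA : b ∈ A := hBA (hb ▸ mem_zpowers b)
      refine le_trans (le_of_eq ?_) (hL _ hzA (fun h => hnc (h ▸ inferInstance)) ?_)
      · rw [zpowers_eq_closure, centralizer_closure]
      · have : zpowers a ⊔ zpowers b = A := by rw [hb, sup_comm, hBa]
        rw [← this]
        refine card_sup_zpowers_le ?_ ?_
        · exact centralizer_le_normalizer _ (fun x hx => setLike_mul_comm (s := A) (hzA hx) hbA)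
        · rw [hAe.2 b hbA]; exact one_mem _
    · refine ih (Nat.card B) ?_ B rfl (hBA.trans hA) (isElementaryAbelian_mono hAe hBA) hBc
        (K ⊓ centralizer {a}) (inf_le_left.trans hK) ?_ ?_
      · rw [← hn]
        exact lt_of_le_of_ne (card_le_of_le hBA) fun h => hBne (eq_of_le_of_card_ge hBA h.ge)
      · refine H20.le_normalizer_inf (hBA.trans hAK) (le_trans ?_ le_normalizer)
        intro b hb
        rw [mem_centralizer_singleton_iff]
        exact setLike_mul_comm (s := A) (hBA hb) ha
      · intro B₁ hB₁ hne hcard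
        have hle : B₁ ⊔ zpowers a ≤ A := sup_le (hB₁.trans hBA) hzA
        have hnorm : ∀ X : Subgroup G, X ≤ A → ∀ x ∈ A, x ∈ normalizer (X : Set G) :=
          fun X hX x hx =>
            centralizer_le_normalizer _ (fun y hy => setLike_mul_comm (s := A) (hX hy) hx)
        have hap' : ∀ X : Subgroup G, a ^ p ∈ X := fun X => by rw [hAe.2 a ha]; exact one_mem _
        have h4 : Nat.card A = p * Nat.card B :=
          hBa ▸ card_sup_zpowers (hnorm B hBA a ha) (hAe.2 a ha) haB
        have h2 : Nat.card ↥(B₁ ⊔ zpowers a) = p * Nat.card B₁ :=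
          card_sup_zpowers (hnorm B₁ (hB₁.trans hBA) a ha) (hAe.2 a ha) fun h => haB (hB₁ h)
        have h3 : Nat.card B₁ < Nat.card B :=
          lt_of_le_of_ne (card_le_of_le hB₁) fun h => hne (eq_of_le_of_card_ge hB₁ h.ge)
        refine le_trans ?_ (hL (B₁ ⊔ zpowers a) hle (fun h => ?_) ?_)
        · refine le_inf (inf_le_left.trans inf_le_left) ?_
          rw [centralizer_sup_eq, zpowers_eq_closure, centralizer_closure]
          exact le_inf inf_le_right (inf_le_left.trans inf_le_right)
        · rw [h, h4] at h2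
          exact absurd (Nat.eq_of_mul_eq_mul_left (Fact.out : p.Prime).pos h2) h3.ne'
        · rw [h4, h2]
          exact Nat.mul_le_mul_left _ hcard

/-- A noncyclic elementary abelian subgroup has a cocyclic subgroup with strictly larger fixed points. -/
theorem exists_fixed_lt (hA : A ≤ H) (hAe : IsElementaryAbelian p A) (hA1 : A ≠ ⊥)
    (hnc : ¬ IsCyclic A) {L : Subgroup G} (hL : ¬ coreOf p H ≤ L)
    (hLA : coreOf p H ⊓ centralizer (A : Set G) ≤ L) :
    ∃ B ≤ A, B ≠ A ∧ Nat.card A ≤ p * Nat.card B ∧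
      ¬ coreOf p H ⊓ centralizer (B : Set G) ≤ L ∧
      p * Nat.card ↥(V ⊓ centralizer (A : Set G)) ≤ Nat.card ↥(V ⊓ centralizer (B : Set G)) := by
  by_contra hcon
  refine hL (S.fixed_core_le hA hAe hnc fun B hB hne hcard => ?_)
  by_contra hnot
  refine hcon ⟨B, hB, hne, hcard, hnot, ?_⟩
  have hle : V ⊓ centralizer (A : Set G) ≤ V ⊓ centralizer (B : Set G) :=
    inf_le_inf_left _ (centralizer_le hB)
  by_contra hlt
  have heq : V ⊓ centralizer (A : Set G) = V ⊓ centralizer (B : Set G) := by
    have hp := IsPGroup_of_isElementaryAbelian S.elem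
    obtain ⟨i, hi⟩ := IsPGroup.iff_card.1 (hp.to_le (inf_le_left : V ⊓ centralizer (A : Set G) ≤ V))
    obtain ⟨j, hj⟩ := IsPGroup.iff_card.1 (hp.to_le (inf_le_left : V ⊓ centralizer (B : Set G) ≤ V))
    refine eq_of_le_of_card_ge hle ?_
    rw [hi, hj, ← pow_succ'] at hlt
    rw [hi, hj]
    refine Nat.pow_le_pow_right (Fact.out : p.Prime).pos ?_
    by_contra h
    exact hlt (Nat.pow_le_pow_right (Fact.out : p.Prime).pos (by omega))
  refine hnot (le_trans (le_inf inf_le_left ?_) hLA)
  exact Subgroup.commutator_eq_bot_iff_le_centralizer.1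
    (S.commutator_fixed_core_eq_bot hA hAe hB (heq ▸ inf_le_right))

/-- Offender numbers of elementary abelian `p`-subgroups are at most `|V|`. -/
theorem offNum_le (hA : A ≤ H) (hAe : IsElementaryAbelian p A) : offNum V A ≤ Nat.card V := by
  induction hn : Nat.card A using Nat.strong_induction_on generalizing A with
  | _ n ih =>
    rcases eq_or_ne A ⊥ with rfl | hA1
    · simpa [offNum, Subgroup.card_bot] using card_le_of_le (inf_le_left : V ⊓ centralizer ((⊥ : Subgroup G) : Set G) ≤ V)
    by_cases hc : IsCyclic A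
    · obtain ⟨a, ha⟩ := Subgroup.isCyclic_iff_exists_zpowers_eq_top A |>.1 hc
      have hcard : Nat.card A ≤ p := by
        rw [← ha, Nat.card_zpowers]
        exact Nat.le_of_dvd (Fact.out : p.Prime).pos
          (orderOf_dvd_of_pow_eq_one (hAe.2 a (ha ▸ mem_zpowers a)))
      have hlt : V ⊓ centralizer (A : Set G) < V := by
        refine lt_of_le_of_ne inf_le_left fun h => hA1 (eq_bot_iff.2 (S.faithful ▸ le_inf hA ?_))
        exact le_centralizer_iff.1 (inf_eq_left.1 h)
      obtain ⟨i, hi⟩ := IsPGroup.iff_card.1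
        ((IsPGroup_of_isElementaryAbelian S.elem).to_le hlt.le)
      obtain ⟨j, hj⟩ := IsPGroup.iff_card.1 (IsPGroup_of_isElementaryAbelian S.elem)
      have hij : i < j := by
        refine (Nat.pow_lt_pow_iff_right (Fact.out : p.Prime).one_lt).1 ?_
        rw [← hi, ← hj]
        exact lt_of_le_of_ne (card_le_of_le hlt.le) fun h => hlt.ne (eq_of_le_of_card_ge hlt.le h.ge)
      calc offNum V A ≤ p * p ^ i := Nat.mul_le_mul hcard hi.le
        _ ≤ _ := by rw [← pow_succ', hj]; exact Nat.pow_le_pow_right (Fact.out : p.Prime).pos hij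
    by_cases hK : coreOf p H ≤ centralizer (A : Set G)
    · exact absurd (S.eq_bot_of_centralizes hA (IsPGroup_of_isElementaryAbelian hAe)
        (Subgroup.commutator_eq_bot_iff_le_centralizer.2 hK)) hA1
    obtain ⟨B, hB, hne, hcard, -, hfix⟩ := S.exists_fixed_lt hA hAe hA1 hc hK inf_le_right
    refine le_trans ?_ (ih (Nat.card B) ?_ (hB.trans hA) (isElementaryAbelian_mono hAe hB) rfl)
    · calc offNum V A ≤ (p * Nat.card B) * Nat.card ↥(V ⊓ centralizer (A : Set G)) :=
            Nat.mul_le_mul_right _ hcard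
        _ = Nat.card B * (p * Nat.card ↥(V ⊓ centralizer (A : Set G))) := by ring
        _ ≤ _ := Nat.mul_le_mul_left _ hfix
    · exact hn ▸ lt_of_le_of_ne (card_le_of_le hB) fun h => hne (eq_of_le_of_card_ge hB h.ge)

omit [Fact p.Prime] S in
/-- The trivial subgroup has offender number `|V|`. -/
theorem offNum_bot : offNum V (⊥ : Subgroup G) = Nat.card V := by
  have h : centralizer ((⊥ : Subgroup G) : Set G) = ⊤ :=
    top_unique (le_centralizer_iff.1 bot_le)
  rw [offNum, h, inf_top_eq, Subgroup.card_bot, one_mul]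

/-- An elementary abelian subgroup is a best offender iff its offender number is `|V|`. -/
theorem bestOffender_iff (hA : A ≤ H) :
    IsBestOffenderOn p V A ↔ IsElementaryAbelian p A ∧ offNum V A = Nat.card V := by
  constructor
  · intro h
    have he := S.isElementaryAbelian_of_bestOffender hA h
    exact ⟨he, le_antisymm (S.offNum_le hA he) (offNum_bot (V := V) ▸ h.1 ⊥ bot_le)⟩
  · rintro ⟨he, h⟩
    refine ⟨fun B hB => ?_, ?_, fun a ha => by rw [he.2 a ha]; exact one_mem _⟩
    · exact (S.offNum_le (hB.trans hA) (isElementaryAbelian_mono he hB)).trans h.ge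
    · rw [Subgroup.commutator_self_eq_bot_iff.2 he.1]; exact bot_le

/-- A nontrivial subgroup of `H` moves `V`. -/
theorem commutator_ne_bot (hA : A ≤ H) (hA1 : A ≠ ⊥) : ⁅V, A⁆ ≠ ⊥ := fun h =>
  hA1 (eq_bot_iff.2 (S.faithful ▸ le_inf hA
    (le_centralizer_iff.1 (Subgroup.commutator_eq_bot_iff_le_centralizer.1 h))))

omit [Finite G] [Fact p.Prime] S in
/-- A transvection group is nontrivial. -/
theorem _root_.Cfsg.Agent.H34.IsTransvectionGroup.ne_bot [Fact p.Prime]
    (h : IsTransvectionGroup p V H A) : A ≠ ⊥ := by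
  rintro rfl
  have := h.2.1
  rw [Subgroup.card_bot] at this
  exact (Fact.out : p.Prime).ne_one this.symm

/-- Transvection groups are exactly the minimal best offenders moving `V`. -/
theorem isTransvectionGroup_of_minimal (hA : A ≤ H) (hb : IsBestOffenderOn p V A) (hA1 : A ≠ ⊥)
    (hmin : ∀ B ≤ A, IsBestOffenderOn p V B → B ≠ ⊥ → B = A) :
    IsTransvectionGroup p V H A := by
  obtain ⟨he, hoff⟩ := (S.bestOffender_iff hA).1 hb
  have hcard : Nat.card A = p := by
    obtain ⟨k, hk⟩ := IsPGroup.iff_card.1 (IsPGroup_of_isElementaryAbelian he)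
    have hk0 : k ≠ 0 := fun h => hA1 (eq_bot_of_card_eq _ (by rw [hk, h, pow_zero]))
    by_contra hne
    have hnc : ¬ IsCyclic A := fun hc => by
      obtain ⟨a, ha⟩ := Subgroup.isCyclic_iff_exists_zpowers_eq_top A |>.1 hc
      refine hne (ha ▸ ?_)
      rw [Nat.card_zpowers]
      refine orderOf_eq_prime (he.2 a (ha ▸ mem_zpowers a)) ?_
      rintro rfl
      exact hA1 (by rw [← ha, zpowers_one_eq_bot])
    have hK : ¬ coreOf p H ≤ centralizer (A : Set G) := fun h =>
      hA1 (S.eq_bot_of_centralizes hA (IsPGroup_of_isElementaryAbelian he)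
        (Subgroup.commutator_eq_bot_iff_le_centralizer.2 h))
    obtain ⟨B, hB, hneB, hc2, -, hfix⟩ := S.exists_fixed_lt hA he hA1 hnc hK inf_le_right
    have hBe := isElementaryAbelian_mono he hB
    have hoffB : Nat.card V ≤ offNum V B := by
      rw [← hoff]
      calc offNum V A ≤ (p * Nat.card B) * Nat.card ↥(V ⊓ centralizer (A : Set G)) :=
            Nat.mul_le_mul_right _ hc2
        _ = Nat.card B * (p * Nat.card ↥(V ⊓ centralizer (A : Set G))) := by ring
        _ ≤ _ := Nat.mul_le_mul_left _ hfix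
    refine hneB (hmin B hB ((S.bestOffender_iff (hB.trans hA)).2
      ⟨hBe, le_antisymm (S.offNum_le (hB.trans hA) hBe) hoffB⟩) fun hb0 => ?_)
    subst hb0
    rw [Subgroup.card_bot, mul_one] at hc2
    obtain hk1 : k = 1 := by
      refine le_antisymm ((Nat.pow_le_pow_iff_right (Fact.out : p.Prime).one_lt).1 ?_) (by omega)
      rw [← hk, pow_one]; exact hc2
    exact hne (by rw [hk, hk1, pow_one])
  refine ⟨hA, hcard, ?_⟩
  rw [mul_comm, ← hoff, offNum, hcard]

/-- A transvection group is a minimal best offender moving `V`. -/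
theorem minimal_of_isTransvectionGroup (h : IsTransvectionGroup p V H A) :
    IsBestOffenderOn p V A ∧ ⁅V, A⁆ ≠ ⊥ ∧
      ∀ B ≤ A, IsBestOffenderOn p V B → ⁅V, B⁆ ≠ ⊥ → B = A := by
  obtain ⟨hA, hcard, hfix⟩ := h
  haveI : IsCyclic A := isCyclic_of_prime_card hcard
  have he : IsElementaryAbelian p A := ⟨inferInstance, fun a ha => by
    have := pow_card_eq_one' (G := A) (x := ⟨a, ha⟩)
    rw [hcard] at this
    simpa using congrArg Subtype.val this⟩
  refine ⟨(S.bestOffender_iff hA).2 ⟨he, by rw [offNum, hcard, mul_comm, hfix]⟩,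
    S.commutator_ne_bot hA (IsTransvectionGroup.ne_bot ⟨hA, hcard, hfix⟩), fun B hB _ hne => ?_⟩
  rcases (Nat.dvd_prime (Fact.out : p.Prime)).1 (hcard ▸ card_dvd_of_le hB) with h | h
  · exact absurd (by rw [eq_bot_of_card_eq _ h]; exact Subgroup.commutator_bot_right V) hne
  · exact eq_of_le_of_card_ge hB (by rw [hcard, h])

/-- Best offenders are generated by transvection groups. -/
theorem generated_by_transvections (hA : A ≤ H) (hb : IsBestOffenderOn p V A) :
    A ≤ sSup {B | IsTransvectionGroup p V H B ∧ B ≤ A} := by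
  induction hn : Nat.card A using Nat.strong_induction_on generalizing A with
  | _ n ih =>
    rcases eq_or_ne A ⊥ with rfl | hA1
    · exact bot_le
    obtain ⟨he, hoff⟩ := (S.bestOffender_iff hA).1 hb
    by_cases hc : IsCyclic A
    · refine le_sSup ⟨S.isTransvectionGroup_of_minimal hA hb hA1 fun B hB _ hB1 => ?_, le_rfl⟩
      obtain ⟨a, ha⟩ := Subgroup.isCyclic_iff_exists_zpowers_eq_top A |>.1 hc
      have hdvd : Nat.card B ∣ p := (card_dvd_of_le hB).trans (by
        rw [← ha, Nat.card_zpowers]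
        exact orderOf_dvd_of_pow_eq_one (he.2 a (ha ▸ mem_zpowers a)))
      rcases (Nat.dvd_prime (Fact.out : p.Prime)).1 hdvd with h | h
      · exact absurd (eq_bot_of_card_eq _ h) hB1
      · refine eq_of_le_of_card_ge hB ?_
        rw [h, ← ha, Nat.card_zpowers]
        exact Nat.le_of_dvd (Fact.out : p.Prime).pos
          (orderOf_dvd_of_pow_eq_one (he.2 a (ha ▸ mem_zpowers a)))
    have hK : ¬ coreOf p H ≤ centralizer (A : Set G) := fun h =>
      hA1 (S.eq_bot_of_centralizes hA (IsPGroup_of_isElementaryAbelian he)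
        (Subgroup.commutator_eq_bot_iff_le_centralizer.2 h))
    have step : ∀ L : Subgroup G, coreOf p H ⊓ centralizer (A : Set G) ≤ L → ¬ coreOf p H ≤ L →
        ∃ B ≤ A, B ≠ A ∧ Nat.card A ≤ p * Nat.card B ∧ IsBestOffenderOn p V B ∧
          ¬ coreOf p H ⊓ centralizer (B : Set G) ≤ L := by
      intro L h1 h2
      obtain ⟨B, hB, hne, hc2, hnot, hfix⟩ := S.exists_fixed_lt hA he hA1 hc h2 h1
      have hBe := isElementaryAbelian_mono he hB
      refine ⟨B, hB, hne, hc2, (S.bestOffender_iff (hB.trans hA)).2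
        ⟨hBe, le_antisymm (S.offNum_le (hB.trans hA) hBe) ?_⟩, hnot⟩
      rw [← hoff]
      calc offNum V A ≤ (p * Nat.card B) * Nat.card ↥(V ⊓ centralizer (A : Set G)) :=
            Nat.mul_le_mul_right _ hc2
        _ = Nat.card B * (p * Nat.card ↥(V ⊓ centralizer (A : Set G))) := by ring
        _ ≤ _ := Nat.mul_le_mul_left _ hfix
    obtain ⟨B, hB, hBne, hBc, hBb, -⟩ := step _ inf_le_right hK
    -- the core fixed points of a single cocyclic subgroup cannot generate
    have hB1 : B ≠ ⊥ := by
      rintro rfl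
      rw [Subgroup.card_bot, mul_one] at hBc
      refine hc ?_
      obtain ⟨k, hk⟩ := IsPGroup.iff_card.1 (IsPGroup_of_isElementaryAbelian he)
      have hk1 : k ≤ 1 := (Nat.pow_le_pow_iff_right (Fact.out : p.Prime).one_lt).1 (by
        rw [← hk, pow_one]; exact hBc)
      interval_cases k
      · exact absurd (eq_bot_of_card_eq _ (by rw [hk, pow_zero])) hA1
      · exact isCyclic_of_prime_card (by rw [hk, pow_one])
    have hK2 : ¬ coreOf p H ≤ centralizer (B : Set G) := fun h =>
      hB1 (S.eq_bot_of_centralizes (hB.trans hA)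
        (IsPGroup_of_isElementaryAbelian (isElementaryAbelian_mono he hB))
        (Subgroup.commutator_eq_bot_iff_le_centralizer.2 h))
    obtain ⟨B', hB', hB'ne, hB'c, hB'b, hnot⟩ :=
      step _ (inf_le_right.trans (centralizer_le hB)) hK2
    have hne' : B' ≠ B := fun h => hnot (h ▸ inf_le_right)
    have hlt : ∀ X ≤ A, X ≠ A → Nat.card X < n := fun X hX hne =>
      hn ▸ lt_of_le_of_ne (card_le_of_le hX) fun h => hne (eq_of_le_of_card_ge hX h.ge)
    have hsup : A ≤ B ⊔ B' := by
      by_contra hnle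
      have hle : B ⊔ B' ≤ A := sup_le hB hB'
      have hBlt : B ⊔ B' ≠ A := fun h => hnle h.ge
      obtain ⟨i, hi⟩ := IsPGroup.iff_card.1 (IsPGroup_of_isElementaryAbelian (isElementaryAbelian_mono he hle))
      obtain ⟨j, hj⟩ := IsPGroup.iff_card.1 (IsPGroup_of_isElementaryAbelian he)
      obtain ⟨l, hl⟩ := IsPGroup.iff_card.1 (IsPGroup_of_isElementaryAbelian (isElementaryAbelian_mono he hB))
      obtain ⟨m, hm⟩ := IsPGroup.iff_card.1 (IsPGroup_of_isElementaryAbelian (isElementaryAbelian_mono he hB'))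
      have hp1 := (Fact.out : p.Prime).one_lt
      have e1 : i < j := (Nat.pow_lt_pow_iff_right hp1).1 (by
        have := hlt _ hle hBlt; rw [← hn, hi, hj] at this; exact this)
      have e2 : j ≤ l + 1 := (Nat.pow_le_pow_iff_right hp1).1 (by
        rw [pow_succ', ← hl, ← hj]; exact hBc)
      have e2' : j ≤ m + 1 := (Nat.pow_le_pow_iff_right hp1).1 (by
        rw [pow_succ', ← hm, ← hj]; exact hB'c)
      have e3 : Nat.card ↥(B ⊔ B') ≤ Nat.card B := by
        rw [hi, hl]; exact Nat.pow_le_pow_right (Fact.out : p.Prime).pos (by omega)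
      have e4 : Nat.card ↥(B ⊔ B') ≤ Nat.card B' := by
        rw [hi, hm]; exact Nat.pow_le_pow_right (Fact.out : p.Prime).pos (by omega)
      exact hne' ((eq_of_le_of_card_ge le_sup_right e4).trans (eq_of_le_of_card_ge le_sup_left e3).symm)
    refine hsup.trans (sup_le ?_ ?_)
    · exact (ih _ (hlt B hB hBne) (hB.trans hA) hBb rfl).trans
        (sSup_le_sSup fun C hC => ⟨hC.1, hC.2.trans hB⟩)
    · exact (ih _ (hlt B' hB' hB'ne) (hB'.trans hA) hB'b rfl).trans
        (sSup_le_sSup fun C hC => ⟨hC.1, hC.2.trans hB'⟩)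

/-- The commutator of a transvection group with `V` has order `p`. -/
theorem card_commutator_transvection (h : IsTransvectionGroup p V H A) :
    Nat.card ↥⁅V, A⁆ = p := by
  obtain ⟨hA, hcard, hfix⟩ := h
  haveI := S.elem.1
  haveI : IsCyclic A := isCyclic_of_prime_card hcard
  obtain ⟨a, ha⟩ := Subgroup.isCyclic_iff_exists_zpowers_eq_top A |>.1 ‹_›
  have haN : a ∈ normalizer (V : Set G) := S.norm (hA (ha ▸ mem_zpowers a))
  let f : V →* G :=
    { toFun := fun v => ⁅a, (v : G)⁆
      map_one' := by simp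
      map_mul' := fun v w => by
        push_cast
        rw [commutatorElement_mul_right_eq_mul_conj, mul_assoc ⁅a, (v : G)⁆,
          setLike_mul_comm (s := V) v.2 (comm_mem_of_mem_normalizer haN w.2)]
        simp [mul_assoc] }
  have hker : f.ker = (V ⊓ centralizer (A : Set G)).subgroupOf V := by
    ext v
    rw [MonoidHom.mem_ker, mem_subgroupOf, ← ha, zpowers_eq_closure, centralizer_closure, mem_inf]
    exact ⟨fun h => ⟨v.2, mem_centralizer_singleton_iff.2 (commutatorElement_eq_one_iff_mul_comm.1 h).symm⟩,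
      fun h => commutatorElement_eq_one_iff_mul_comm.2 (mem_centralizer_singleton_iff.1 h.2).symm⟩
  have hrange : f.range = ⁅V, A⁆ := by
    refine le_antisymm ?_ ?_
    · rintro _ ⟨v, rfl⟩
      rw [Subgroup.commutator_comm]
      exact commutator_mem_commutator (ha ▸ mem_zpowers a) v.2
    · have hfR : ∀ v ∈ V, ⁅a, v⁆ ∈ f.range := fun v hv => ⟨⟨v, hv⟩, rfl⟩
      have hpow : ∀ (n : ℕ) (v : G), v ∈ V → ⁅a ^ n, v⁆ ∈ f.range := by
        intro n v hv
        induction n with
        | zero => simp
        | succ n ih =>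
          obtain ⟨w, hw⟩ := ih
          have hwV : ⁅a ^ n, v⁆ ∈ V :=
            comm_mem_of_mem_normalizer ((normalizer (V : Set G)).pow_mem haN n) hv
          rw [pow_succ', comm_mul_left, show a * ⁅a ^ n, v⁆ * a⁻¹ = ⁅a, ⁅a ^ n, v⁆⁆ * ⁅a ^ n, v⁆ by
            simp [commutatorElement_def, mul_assoc]]
          exact mul_mem (mul_mem (hfR _ hwV) ⟨w, hw⟩) (hfR v hv)
      rw [Subgroup.commutator_comm, commutator_le]
      intro x hx v hv
      have hxz : x ∈ zpowers a := ha.symm ▸ hx
      obtain ⟨n, rfl⟩ := (Submonoid.mem_powers_iff _ _).1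
        ((isOfFinOrder_of_finite a).mem_powers_iff_mem_zpowers.2 hxz)
      exact hpow n v hv
  have h1 := f.ker.card_mul_index
  rw [index_ker, hker, hrange,
    Nat.card_congr (subgroupOfEquivOfLe (inf_le_left : V ⊓ centralizer (A : Set G) ≤ V)).toEquiv] at h1
  exact Nat.eq_of_mul_eq_mul_left Nat.card_pos (h1.trans hfix.symm)

end FFSetup

end Cfsg.Agent.H34
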