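import Cfsg.Agent.H96.PStableConstrained

/-!
Quadratic automorphisms in fusion systems: `p`-power order, the cyclic case, and the passage from a
stable group to its fusion system.
-/

set_option autoImplicit false

namespace Cfsg.Agent.H34

open Cfsg Cfsg.FusionSystem
open scoped commutatorElement

variable {Ω : Type*} [Group Ω]

/-- A quadratic automorphism fixes `a⁻¹ χ(a)`. -/
theorem quad_fixed {Q : Subgroup Ω} {χ : MulAut Q} (h : H96.IsQuad χ) (a : Q) :
    χ (a⁻¹ * χ a) = a⁻¹ * χ a := by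
  have h2 : (χ a)⁻¹ * a * ((χ a)⁻¹ * χ (χ a)) = 1 := by
    have := h a
    simpa [mul_assoc] using this
  rw [map_mul, map_inv]
  calc (χ a)⁻¹ * χ (χ a) = ((χ a)⁻¹ * a)⁻¹ := eq_inv_of_mul_eq_one_right h2
    _ = a⁻¹ * χ a := by simp

/-- Powers of a quadratic automorphism. -/
theorem quad_iterate {Q : Subgroup Ω} {χ : MulAut Q} (h : H96.IsQuad χ) (a : Q) (n : ℕ) :
    (χ ^ n) a = a * (a⁻¹ * χ a) ^ n := by
  induction n with
  | zero => simp
  | succ n ih =>
    rw [pow_succ', MulAut.mul_apply, ih, map_mul, map_pow, quad_fixed h, pow_succ' (a⁻¹ * χ a)]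
    simp [mul_assoc]

/-- A quadratic automorphism of a finite `p`-group has `p`-power order. -/
theorem quad_pow_eq_one {p : ℕ} [Fact p.Prime] {Q : Subgroup Ω} [Finite Q] (hQ : IsPGroup p Q)
    {χ : MulAut Q} (h : H96.IsQuad χ) : ∃ k : ℕ, χ ^ p ^ k = 1 := by
  obtain ⟨k, hk⟩ := IsPGroup.iff_card.1 hQ
  refine ⟨k, MulEquiv.ext fun a => ?_⟩
  rw [quad_iterate h, ← hk, pow_card_eq_one']
  simp

/-- A cyclic subgroup is stable. -/
theorem stableAt_of_cyclic {S : Subgroup Ω} [Finite S] {p : ℕ} [Fact p.Prime] (hS : IsPGroup p S)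
    (F : FusionSystem S) {Q : Subgroup Ω} (hQ : Q ≤ S) (hc : IsCyclic Q) : H96.StableAt F p Q := by
  intro χ hχ hquad
  haveI := H93.finite_of_le (S := S) hQ
  haveI : Finite (MulAut Q) := Finite.of_injective (fun e : MulAut Q => (e : Q → Q)) DFunLike.coe_injective
  have hcomm : ∀ x y : MulAut Q, x * y = y * x := by
    intro x y
    refine MulEquiv.ext fun a => ?_
    obtain ⟨g, hg⟩ := hc.exists_generator
    have hx : ∀ z : MulAut Q, ∃ i : ℤ, z g = g ^ i := fun z => by
      obtain ⟨i, hi⟩ := Subgroup.mem_zpowers_iff.1 (hg (z g)); exact ⟨i, hi.symm⟩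
    obtain ⟨i, hi⟩ := hx x
    obtain ⟨j, hj⟩ := hx y
    obtain ⟨n, rfl⟩ := Subgroup.mem_zpowers_iff.1 (hg a)
    simp only [MulAut.mul_apply, map_zpow, hi, hj, ← zpow_mul]
    congr 1
    ring
  obtain ⟨k, hk⟩ := quad_pow_eq_one (hS.to_le hQ) hquad
  let c : F.autGroup Q := ⟨χ, hχ⟩
  have hn : (Subgroup.zpowers c).Normal := ⟨fun z hz y => by
    have : y * z * y⁻¹ = z := by
      apply Subtype.ext
      push_cast
      rw [hcomm (y : MulAut Q), mul_inv_cancel_right]
    rwa [this]⟩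
  have hck : c ^ p ^ k = 1 := Subtype.ext hk
  have hp : IsPGroup p (Subgroup.zpowers c) := by
    obtain ⟨j, -, hj⟩ := (Nat.dvd_prime_pow (Fact.out : p.Prime)).1 (orderOf_dvd_of_pow_eq_one hck)
    exact IsPGroup.of_card (n := j) (by rw [Nat.card_zpowers, hj])
  exact ⟨c, H19.le_pCore hn hp (Subgroup.mem_zpowers c), rfl⟩

/-- The fusion system of a stable group is stable. -/
theorem stableAt_of_normalizerPStable {G : Type*} [Group G] [Finite G] {p : ℕ} [Fact p.Prime]
    (h : Cfsg.IsNormalizerPStable p G) (P : Sylow p G) {Q : Subgroup G} (hQ : Q ≤ (P : Subgroup G)) :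
    H96.StableAt (groupFusionSystem (P : Subgroup G)) p Q := by
  intro χ hχ hquad
  set F := groupFusionSystem (P : Subgroup G)
  have hχ' := hχ
  rw [H93.autGroup_groupFusion P hQ, H93.mem_autInducedBy] at hχ'
  obtain ⟨g, -, hg⟩ := hχ'
  set N := Subgroup.normalizer (Q : Set G)
  have hgN : g ∈ N := H93.mem_normalizer_of_conj_eq hg
  set C := (Subgroup.centralizer (Q : Set G)).subgroupOf N
  haveI : C.Normal := by infer_instance
  -- the quadratic condition in the group
  have hfix : ∀ a : Q, g * ((a⁻¹ * χ a : Q) : G) * g⁻¹ = ((a⁻¹ * χ a : Q) : G) := fun a => by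
    rw [← hg, quad_fixed hquad]
  have hcomm : ⁅Q, Subgroup.zpowers g⁆ ≤ Subgroup.centralizer ((Subgroup.zpowers g : Subgroup G) : Set G) := by
    rw [Subgroup.commutator_le]
    intro q hq z hz
    rw [Subgroup.zpowers_eq_closure, Subgroup.centralizer_closure]
    refine Subgroup.mem_centralizer_singleton_iff.2 ?_
    obtain ⟨n, rfl⟩ := mem_powers_iff_mem_zpowers.2 hz
    have hit : ∀ (m : ℕ) (a : Q), (((χ ^ m) a : Q) : G) = g ^ m * (a : G) * (g ^ m)⁻¹ := by
      intro m
      induction m with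
      | zero => simp
      | succ m ih => intro a; rw [pow_succ', MulAut.mul_apply, hg, ih, pow_succ']; group
    set b : Q := ⟨q, hq⟩⁻¹ with hb
    set d : Q := b⁻¹ * χ b with hd
    have he : ⁅q, g ^ n⁆ = ((d ^ n : Q) : G) := by
      have h1 := hit n b
      rw [quad_iterate hquad] at h1
      have h2 : ((d ^ n : Q) : G) = q * (g ^ n * q⁻¹ * (g ^ n)⁻¹) := by
        have h3 : (b : G) = q⁻¹ := by simp [b]
        rw [Subgroup.coe_mul, ← hd, h3] at h1
        rw [← h1]; group
      rw [h2, commutatorElement_def]; group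
    rw [he]
    have hd1 : g * (d : G) = (d : G) * g := mul_inv_eq_iff_eq_mul.1 (hfix b)
    rw [SubgroupClass.coe_pow]
    exact (Commute.pow_right hd1 n).eq.symm
  have hq2 : ⁅⁅Q, Subgroup.zpowers g⁆, Subgroup.zpowers g⁆ = ⊥ :=
    Subgroup.commutator_eq_bot_iff_le_centralizer.2 hcomm
  have hmem := h Q (P.isPGroup'.to_le hQ) g hgN hq2
  -- map `N / C` onto the automiser
  have hin : ∀ n : N, H93.conjAut ⊤ Q ⟨n, Subgroup.mem_top _, n.2⟩ ∈ F.autGroup Q := fun n => by
    rw [H93.autGroup_groupFusion P hQ]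
    exact H93.mem_autInducedBy.2 ⟨n, Subgroup.mem_top _, fun x => rfl⟩
  let f : N →* F.autGroup Q :=
    { toFun := fun n => ⟨_, hin n⟩
      map_one' := by
        refine Subtype.ext (MulEquiv.ext fun x => Subtype.ext ?_)
        show ((1 : N) : G) * (x : G) * ((1 : N) : G)⁻¹ = x
        simp
      map_mul' := fun a b => by
        refine Subtype.ext (MulEquiv.ext fun x => Subtype.ext ?_)
        show ((a * b : N) : G) * (x : G) * ((a * b : N) : G)⁻¹ = (a : G) * ((b : G) * x * (b : G)⁻¹) * (a : G)⁻¹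
        rw [Subgroup.coe_mul]; group }
  have hker : C ≤ f.ker := by
    intro n hn
    refine Subtype.ext (MulEquiv.ext fun x => Subtype.ext ?_)
    show (n : G) * (x : G) * (n : G)⁻¹ = x
    rw [← Subgroup.mem_subgroupOf.1 hn x x.2, mul_inv_cancel_right]
  let fb := QuotientGroup.lift C f hker
  have hfs : Function.Surjective fb := by
    rintro ⟨α, hα⟩
    have hα' := hα
    rw [H93.autGroup_groupFusion P hQ, H93.mem_autInducedBy] at hα'
    obtain ⟨k, -, hk⟩ := hα'
    exact ⟨QuotientGroup.mk ⟨k, H93.mem_normalizer_of_conj_eq hk⟩,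
      Subtype.ext (MulEquiv.ext fun x => Subtype.ext (hk x).symm)⟩
  have hle : (Cfsg.pCore p (N ⧸ C)).map fb ≤ Cfsg.pCore p (F.autGroup Q) :=
    H19.le_pCore ((H19.pCore_normal p (N ⧸ C)).map fb hfs) ((H19.pCore_isPGroup p).map fb)
  exact ⟨_, hle ⟨_, hmem, rfl⟩, MulEquiv.ext fun x => Subtype.ext (hg x).symm⟩

end Cfsg.Agent.H34
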