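import Cfsg.Agent.H34.FFBasic
import Cfsg.Agent.H34.SL2
import Cfsg.Agent.H34.PlaneCoord

/-! Two transvection groups generating a group which is not a `p`-group act as `SL(2,p)` on a plane. -/

set_option autoImplicit false

namespace Cfsg.Agent.H34

open Subgroup
open Cfsg
open scoped commutatorElement Pointwise

variable {G : Type*} [Group G] [Finite G] {p : ℕ} [Fact p.Prime] {V H A B W L : Subgroup G}

/-- A group generated by elements of order dividing `p` maps to `SL(2,p)` through its action on a plane. -/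
theorem exists_slHom (hW : IsElementaryAbelian p W) (hcard : Nat.card W = p ^ 2) {e₁ e₂ : G}
    (h₁ : e₁ ∈ W) (h₂ : e₂ ∈ W) (hgen : W ≤ zpowers e₁ ⊔ zpowers e₂)
    (hL : L ≤ normalizer (W : Set G)) (hgenL : L ≤ Subgroup.closure {x : G | x ∈ L ∧ x ^ p = 1}) :
    ∃ ψ : L →* Matrix.SpecialLinearGroup (Fin 2) (ZMod p),
      (∀ h : L, ψ h = 1 ↔ (h : G) ∈ centralizer (W : Set G)) ∧
      (∀ (h : L) (a b : ℕ), (h : G) * e₁ * (h : G)⁻¹ = e₁ ^ a * e₂ ^ b →
        (ψ h : Matrix (Fin 2) (Fin 2) (ZMod p)) 0 0 = a ∧ (ψ h : Matrix (Fin 2) (Fin 2) (ZMod p)) 1 0 = b) ∧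
      (∀ (h : L) (a b : ℕ), (h : G) * e₂ * (h : G)⁻¹ = e₁ ^ a * e₂ ^ b →
        (ψ h : Matrix (Fin 2) (Fin 2) (ZMod p)) 0 1 = a ∧ (ψ h : Matrix (Fin 2) (Fin 2) (ZMod p)) 1 1 = b) ∧
      ∀ (h : L), ∀ u ∈ W, ∀ c : ℕ, (h : G) * u * (h : G)⁻¹ = u ^ c →
        ∃ v : Fin 2 → ZMod p, Matrix.mulVec (ψ h : Matrix (Fin 2) (Fin 2) (ZMod p)) v = (c : ZMod p) • v ∧
          (v = 0 → u = 1) := by
  obtain ⟨φ, hker, hc1, hc2, hc3⟩ := exists_planeHom hW hcard h₁ h₂ hgen
  let φL := φ.comp (Subgroup.inclusion hL)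
  let D : Subgroup L :=
    { carrier := {x | (φL x).det = 1}
      one_mem' := by simp
      mul_mem' := by
        intro x y hx hy
        change (φL (x * y)).det = 1
        rw [map_mul, Matrix.det_mul, hx, hy, one_mul]
      inv_mem' := by
        intro x hx
        have h : (φL x⁻¹).det * (φL x).det = 1 := by
          rw [← Matrix.det_mul, ← map_mul, inv_mul_cancel, map_one, Matrix.det_one]
        rwa [hx, mul_one] at h }
  have hD : ∀ x : L, (φL x).det = 1 := by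
    intro x
    have hle : L ≤ D.map L.subtype := by
      refine hgenL.trans ((Subgroup.closure_le _).2 ?_)
      rintro y ⟨hy, hyp⟩
      exact ⟨⟨y, hy⟩, det_eq_one_of_pow_eq_one φL (Subtype.ext hyp), rfl⟩
    obtain ⟨y, hy, hyx⟩ := hle x.2
    exact Subtype.ext hyx ▸ hy
  refine ⟨{ toFun := fun x => ⟨φL x, hD x⟩, map_one' := Subtype.ext (map_one φL),
            map_mul' := fun x y => Subtype.ext (map_mul φL x y) }, fun h => ?_, fun h a b e => ?_,
          fun h a b e => ?_, fun h u hu c e => ?_⟩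
  · exact Subtype.ext_iff.trans (hker (Subgroup.inclusion hL h))
  · exact hc1 (Subgroup.inclusion hL h) a b e
  · exact hc2 (Subgroup.inclusion hL h) a b e
  · exact hc3 (Subgroup.inclusion hL h) u hu c e

namespace FFSetup

variable (S : FFSetup p V H)
include S

/-- A transvection group fixes its commutator and moves `V` inside it. -/
theorem transvection_facts (hA : IsTransvectionGroup p V H A) :
    ⁅V, A⁆ ≤ V ⊓ centralizer (A : Set G) ∧ (∀ a ∈ A, ∀ v ∈ V, ⁅a, v⁆ ∈ ⁅V, A⁆) ∧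
      (∀ a ∈ A, a ^ p = 1) := by
  have hV := IsPGroup_of_isElementaryAbelian S.elem
  have hPV : ⁅V, A⁆ ≤ V := le_normalizer_iff_commutator_le_left.1 (hA.1.trans S.norm)
  have hAp : IsPGroup p A := IsPGroup.of_card (n := 1) (by rw [pow_one, hA.2.1])
  refine ⟨le_inf hPV ?_, fun a ha v hv => ?_, fun a ha => ?_⟩
  · rw [← Subgroup.commutator_eq_bot_iff_le_centralizer]
    by_contra hne
    have hlt := H20.commutator_lt_of_isPGroup (hV.to_le hPV) hAp
      (normalizer_commutator_ge_right V A) (S.commutator_ne_bot hA.1 hA.ne_bot)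
    refine hne (eq_bot_of_card_eq _ ?_)
    have h := S.card_commutator_transvection hA
    rcases (Nat.dvd_prime (Fact.out : p.Prime)).1 (h ▸ card_dvd_of_le hlt.le) with h' | h'
    · exact h'
    · exact absurd (eq_of_le_of_card_ge hlt.le (by rw [h, h'])) hlt.ne
  · rw [Subgroup.commutator_comm]; exact commutator_mem_commutator ha hv
  · have := pow_card_eq_one' (G := A) (x := ⟨a, ha⟩)
    rw [hA.2.1] at this
    simpa using congrArg Subtype.val this

/-- Two transvection groups not generating a `p`-group act on their common plane as `SL(2,p)`. -/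
theorem pair (hA : IsTransvectionGroup p V H A) (hB : IsTransvectionGroup p V H B)
    (hnp : ¬ IsPGroup p ↥(A ⊔ B)) :
    Nat.card ↥(⁅V, A⁆ ⊔ ⁅V, B⁆) = p ^ 2 ∧
    ⁅V, A ⊔ B⁆ = ⁅V, A⁆ ⊔ ⁅V, B⁆ ∧
    (⁅V, A⁆ ⊔ ⁅V, B⁆) ⊓ (V ⊓ centralizer ((A ⊔ B : Subgroup G) : Set G)) = ⊥ ∧
    (⁅V, A⁆ ⊔ ⁅V, B⁆) ⊔ (V ⊓ centralizer ((A ⊔ B : Subgroup G) : Set G)) = V ∧
    (A ⊔ B) ⊓ centralizer ((⁅V, A⁆ ⊔ ⁅V, B⁆ : Subgroup G) : Set G) = ⊥ ∧
    (⁅V, A⁆ ⊔ ⁅V, B⁆) ⊓ centralizer (A : Set G) ≤ ⁅V, A⁆ ∧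
    ∃ e : ↥(A ⊔ B) ≃* Matrix.SpecialLinearGroup (Fin 2) (ZMod p),
      ∀ h : ↥(A ⊔ B), ∀ u ∈ ⁅V, A⁆ ⊔ ⁅V, B⁆, ∀ c : ℕ, (h : G) * u * (h : G)⁻¹ = u ^ c →
        ∃ v : Fin 2 → ZMod p, Matrix.mulVec (e h : Matrix (Fin 2) (Fin 2) (ZMod p)) v = (c : ZMod p) • v ∧
          (v = 0 → u = 1) := by
  haveI := S.elem.1
  have hp := (Fact.out : p.Prime)
  obtain ⟨hPC, hAmem, hApow⟩ := S.transvection_facts hA
  obtain ⟨hRC, hBmem, hBpow⟩ := S.transvection_facts hB
  set P := ⁅V, A⁆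
  set R := ⁅V, B⁆
  set W := P ⊔ R
  have hPV : P ≤ V := hPC.trans inf_le_left
  have hRV : R ≤ V := hRC.trans inf_le_left
  have hWV : W ≤ V := sup_le hPV hRV
  have hPc : Nat.card P = p := S.card_commutator_transvection hA
  have hRc : Nat.card R = p := S.card_commutator_transvection hB
  have hAW : A ≤ normalizer (W : Set G) := by
    rw [le_normalizer_iff_commutator_le_left]
    exact (commutator_mono hWV le_rfl).trans le_sup_left
  have hBW : B ≤ normalizer (W : Set G) := by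
    rw [le_normalizer_iff_commutator_le_left]
    exact (commutator_mono hWV le_rfl).trans le_sup_right
  have hstab : ∀ U : Subgroup G, U ≤ V → ∀ X : Subgroup G, X ≤ H →
      X ≤ centralizer (U : Set G) → (∀ x ∈ X, ∀ v ∈ V, ⁅x, v⁆ ∈ U) →
      X ≤ stabilizerOfSeries H V U := fun U _ X hX hc hm x hx =>
    ⟨hX hx, fun u hu => commutatorElement_eq_one_iff_mul_comm.2
      (mem_centralizer_iff.1 (hc hx) u hu).symm, hm x hx⟩
  have hAcP : A ≤ centralizer (P : Set G) := le_centralizer_iff.1 (hPC.trans inf_le_right)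
  have hBcR : B ≤ centralizer (R : Set G) := le_centralizer_iff.1 (hRC.trans inf_le_right)
  have hne : P ≠ R := by
    intro h
    refine hnp ((isPGroup_stabilizerOfSeries S.elem hPV S.faithful).to_le (sup_le ?_ ?_))
    · exact hstab P hPV A hA.1 hAcP hAmem
    · exact hstab P hPV B hB.1 (h ▸ hBcR) (h ▸ hBmem)
  have hinf : P ⊓ R = ⊥ := by
    rcases (Nat.dvd_prime hp).1 (hPc ▸ card_dvd_of_le (inf_le_left : P ⊓ R ≤ P)) with h | h
    · exact eq_bot_of_card_eq _ h
    · refine absurd ?_ hne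
      have h1 := eq_of_le_of_card_ge (inf_le_left : P ⊓ R ≤ P) (by rw [h, hPc])
      exact eq_of_le_of_card_ge (inf_eq_left.1 h1) (by rw [hPc, hRc])
  obtain ⟨e₁', he₁', he₁'1⟩ : ∃ x ∈ P, x ≠ 1 := by
    by_contra h
    have : P = ⊥ := eq_bot_iff.2 fun x hx => by_contra fun hx1 => h ⟨x, hx, by simpa using hx1⟩
    rw [this, Subgroup.card_bot] at hPc
    exact hp.ne_one hPc.symm
  obtain ⟨e₂, he₂, he₂1⟩ : ∃ x ∈ R, x ≠ 1 := by
    by_contra h
    have : R = ⊥ := eq_bot_iff.2 fun x hx => by_contra fun hx1 => h ⟨x, hx, by simpa using hx1⟩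
    rw [this, Subgroup.card_bot] at hRc
    exact hp.ne_one hRc.symm
  have hline : ∀ (P : Subgroup G), Nat.card P = p → ∀ x ∈ P, x ≠ 1 → zpowers x = P := by
    intro P hP x hx hx1
    refine eq_of_le_of_card_ge (zpowers_le.2 hx) (le_of_eq ?_)
    rw [hP, Nat.card_zpowers]
    rcases (Nat.dvd_prime hp).1 (hP ▸ orderOf_dvd_natCard (G := P) ⟨x, hx⟩) with h | h
    · exact absurd (orderOf_eq_one_iff.1 ((orderOf_mk x hx).symm.trans h)) hx1
    · exact ((orderOf_mk x hx).symm.trans h).symm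
  have hP1 := hline P hPc e₁' he₁' he₁'1
  have hR1 := hline R hRc e₂ he₂ he₂1
  have hWcard : Nat.card W = p ^ 2 := by
    have hnot : e₂ ∉ P := fun h => he₂1 (by
      have : e₂ ∈ P ⊓ R := ⟨h, he₂⟩
      rwa [hinf, mem_bot] at this)
    have h := card_sup_zpowers (p := p) (B := P) (a := e₂)
      (centralizer_le_normalizer _ ((hRV.trans ((le_centralizer V).trans (centralizer_le hPV))) he₂))
      (S.elem.2 _ (hRV he₂)) hnot
    rw [hR1] at h
    rw [h, hPc, sq]
  -- the cross terms do not vanish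
  have hnorm : ∀ (X Y U : Subgroup G), X ≤ H → Y ≤ H → U ≤ V → X ≤ normalizer (U : Set G) →
      IsPGroup p X → Y ≤ stabilizerOfSeries H V U → IsPGroup p ↥(X ⊔ Y) := by
    intro X Y U hX hY hU hXU hXp hYS
    refine IsPGroup.to_le (IsPGroup.to_sup_of_normal_right' hXp
      (isPGroup_stabilizerOfSeries S.elem hU S.faithful)
      (le_normalizer_stabilizerOfSeries (hX.trans le_normalizer) (hX.trans S.norm) hXU))
      (sup_le_sup_left hYS _)
  have hPB : ¬ P ≤ centralizer (B : Set G) := fun h =>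
    hnp (hnorm A B W hA.1 hB.1 hWV hAW (IsPGroup.of_card (n := 1) (by rw [pow_one, hA.2.1]))
      (hstab W hWV B hB.1 (le_centralizer_iff.1 (sup_le h (hRC.trans inf_le_right)))
        fun x hx v hv => mem_sup_right (hBmem x hx v hv)))
  have hRA : ¬ R ≤ centralizer (A : Set G) := fun h => by
    have := hnorm B A W hB.1 hA.1 hWV hBW (IsPGroup.of_card (n := 1) (by rw [pow_one, hB.2.1]))
      (hstab W hWV A hA.1 (le_centralizer_iff.1 (sup_le (hPC.trans inf_le_right) h))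
        fun x hx v hv => mem_sup_left (hAmem x hx v hv))
    exact hnp (sup_comm A B ▸ this)
  have hcap : ∀ (P' : Subgroup G), Nat.card P' = p → P' ≤ W → P' ≤ centralizer (A : Set G) →
      W ⊓ centralizer (A : Set G) = P' := by
    intro P' hP' hP'W hP'A
    refine (eq_of_le_of_card_ge (le_inf hP'W hP'A) ?_).symm
    obtain ⟨j, hj2, hj⟩ := (Nat.dvd_prime_pow hp).1
      (hWcard ▸ card_dvd_of_le (inf_le_left : W ⊓ centralizer (A : Set G) ≤ W))
    rw [hj, hP']
    by_contra hgt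
    have hj2' : j = 2 := by
      rcases Nat.lt_or_ge j 2 with h | h
      · exact absurd (by rw [← pow_one p, ← pow_mul, one_mul]; exact Nat.pow_le_pow_right hp.pos (by omega)) hgt
      · omega
    have := eq_of_le_of_card_ge (inf_le_left : W ⊓ centralizer (A : Set G) ≤ W) (by rw [hj, hj2', hWcard])
    exact hRA (le_sup_right.trans (inf_eq_left.1 this))
  have hWA : W ⊓ centralizer (A : Set G) = P := hcap P hPc le_sup_left (hPC.trans inf_le_right)
  set C := V ⊓ centralizer ((A ⊔ B : Subgroup G) : Set G)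
  have hWC : W ⊓ C = ⊥ := by
    rw [eq_bot_iff, ← hinf]
    intro x hx
    obtain ⟨hxW, -, hxc⟩ := hx
    rw [SetLike.mem_coe, centralizer_sup_eq] at hxc
    have hxP : x ∈ P := hWA ▸ ⟨hxW, hxc.1⟩
    refine ⟨hxP, ?_⟩
    by_contra hxR
    have hx1 : x ≠ 1 := fun h => hxR (h ▸ one_mem R)
    exact hPB (by rw [← hline P hPc x hxP hx1, zpowers_le]; exact hxc.2)
  have hsupV : W ⊔ C = V := by
    refine eq_of_le_of_card_ge (sup_le hWV inf_le_left) ?_
    have h1 := card_mul_card_le W C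
    rw [hWC, Subgroup.card_bot, mul_one, hWcard] at h1
    have h2 := card_mul_card_le (V ⊓ centralizer (A : Set G)) (V ⊓ centralizer (B : Set G))
    have h3 : (V ⊓ centralizer (A : Set G)) ⊓ (V ⊓ centralizer (B : Set G)) = C := by
      rw [← inf_inf_distrib_left, ← centralizer_sup_eq]
    rw [h3] at h2
    have h4 : Nat.card ↥((V ⊓ centralizer (A : Set G)) ⊔ (V ⊓ centralizer (B : Set G))) ≤ Nat.card V :=
      card_le_of_le (sup_le inf_le_left inf_le_left)
    have h5 : Nat.card V * Nat.card V ≤ Nat.card V * (p ^ 2 * Nat.card C) := by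
      calc Nat.card V * Nat.card V = p ^ 2 * (Nat.card ↥(V ⊓ centralizer (A : Set G)) *
            Nat.card ↥(V ⊓ centralizer (B : Set G))) := by rw [← hA.2.2]; nth_rw 2 [hA.2.2.trans hB.2.2.symm]; ring
        _ ≤ p ^ 2 * (Nat.card V * Nat.card C) :=
            Nat.mul_le_mul_left _ (h2.trans (Nat.mul_le_mul_right _ h4))
        _ = _ := by ring
    exact (Nat.le_of_mul_le_mul_left h5 Nat.card_pos).trans h1
  have hfaith : (A ⊔ B) ⊓ centralizer (W : Set G) = ⊥ := by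
    rw [eq_bot_iff, ← S.faithful]
    refine le_inf (inf_le_left.trans (sup_le hA.1 hB.1)) ?_
    conv_rhs => rw [← hsupV, centralizer_sup_eq]
    exact le_inf inf_le_right (inf_le_left.trans
      (le_centralizer_iff.1 (inf_le_right : C ≤ centralizer ((A ⊔ B : Subgroup G) : Set G))))
  have hcomm : ⁅V, A ⊔ B⁆ = W := by
    refine le_antisymm ?_ (sup_le (commutator_mono le_rfl le_sup_left) (commutator_mono le_rfl le_sup_right))
    rw [commutator_le]
    intro v hv x hx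
    have hxW : x ∈ normalizer (W : Set G) := sup_le hAW hBW hx
    have hCW : C ≤ normalizer (W : Set G) :=
      (inf_le_left.trans (le_centralizer V)).trans ((centralizer_le hWV).trans (centralizer_le_normalizer _))
    have hv' : v ∈ (W : Set G) * (C : Set G) := by
      rw [← Subgroup.coe_mul_of_right_le_normalizer_left W C hCW, hsupV]
      exact hv
    obtain ⟨w, hw, c, ⟨-, hc⟩, rfl⟩ := Set.mem_mul.1 hv'
    have hcx : c * x * c⁻¹ = x := by rw [← hc x hx, mul_inv_cancel_right]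
    have e : ⁅w * c, x⁆ = ⁅w, x⁆ := by
      calc ⁅w * c, x⁆ = w * (c * x * c⁻¹) * w⁻¹ * x⁻¹ := by simp [commutatorElement_def, mul_assoc]
        _ = _ := by rw [hcx, commutatorElement_def]
    rw [e, ← commutatorElement_inv]
    exact inv_mem (comm_mem_of_mem_normalizer hxW hw)
  refine ⟨hWcard, hcomm, hWC, hsupV, hfaith, hWA.le, ?_⟩
  haveI : IsCyclic A := isCyclic_of_prime_card hA.2.1
  haveI : IsCyclic B := isCyclic_of_prime_card hB.2.1
  obtain ⟨a, ha⟩ := Subgroup.isCyclic_iff_exists_zpowers_eq_top A |>.1 ‹_›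
  obtain ⟨b, hb⟩ := Subgroup.isCyclic_iff_exists_zpowers_eq_top B |>.1 ‹_›
  have haA : a ∈ A := ha ▸ mem_zpowers a
  have hbB : b ∈ B := hb ▸ mem_zpowers b
  have he₁1 : ⁅a, e₂⁆ ≠ 1 := by
    intro h
    refine hRA ?_
    rw [← hR1, zpowers_le, ← ha, zpowers_eq_closure, centralizer_closure, mem_centralizer_singleton_iff]
    exact (commutatorElement_eq_one_iff_mul_comm.1 h).symm
  set e₁ := ⁅a, e₂⁆ with he₁
  have he₁P : e₁ ∈ P := hAmem a haA e₂ (hRV he₂)
  have hP' : zpowers e₁ = P := hline P hPc e₁ he₁P he₁1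
  obtain ⟨t, ht⟩ : ∃ t : ℕ, ⁅b, e₁⁆ = e₂ ^ t := by
    have hm : ⁅b, e₁⁆ ∈ zpowers e₂ := hR1.symm ▸ hBmem b hbB e₁ (hPV he₁P)
    obtain ⟨t, ht⟩ := (Submonoid.mem_powers_iff _ _).1
      ((isOfFinOrder_of_finite e₂).mem_powers_iff_mem_zpowers.2 hm)
    exact ⟨t, ht.symm⟩
  have ht0 : (t : ZMod p) ≠ 0 := by
    intro h
    obtain ⟨m, rfl⟩ := (ZMod.natCast_eq_zero_iff t p).1 h
    rw [pow_mul, S.elem.2 _ (hRV he₂), one_pow] at ht
    refine hPB ?_
    rw [← hP', zpowers_le, ← hb, zpowers_eq_closure, centralizer_closure, mem_centralizer_singleton_iff]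
    exact (commutatorElement_eq_one_iff_mul_comm.1 ht).symm
  obtain ⟨ψ, hker, hc1, hc2, hc3⟩ := exists_slHom (L := A ⊔ B) (W := W)
    (isElementaryAbelian_mono S.elem hWV) hWcard (mem_sup_left he₁P) (mem_sup_right he₂)
    (by rw [hP', hR1]) (sup_le hAW hBW)
    (sup_le (fun x hx => Subgroup.subset_closure ⟨mem_sup_left hx, hApow x hx⟩)
      (fun x hx => Subgroup.subset_closure ⟨mem_sup_right hx, hBpow x hx⟩))
  have hψa : ψ ⟨a, mem_sup_left haA⟩ = SL2.upper 1 := by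
    obtain ⟨u1, u2⟩ := hc1 ⟨a, mem_sup_left haA⟩ 1 0 (by
      simp only [pow_one, pow_zero, mul_one]
      rw [← mem_centralizer_iff.1 (hAcP haA) e₁ he₁P, mul_inv_cancel_right])
    obtain ⟨u3, u4⟩ := hc2 ⟨a, mem_sup_left haA⟩ 1 1 (by
      simp [he₁, commutatorElement_def, mul_assoc])
    apply Subtype.ext
    ext i j
    fin_cases i <;> fin_cases j <;> simp [u1, u2, u3, u4]
  have hψb : ψ ⟨b, mem_sup_right hbB⟩ = SL2.lower (t : ZMod p) := by
    obtain ⟨u1, u2⟩ := hc1 ⟨b, mem_sup_right hbB⟩ 1 t (by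
      rw [pow_one, setLike_mul_comm (s := V) (hPV he₁P) (V.pow_mem (hRV he₂) t), ← ht]
      simp [commutatorElement_def, mul_assoc])
    obtain ⟨u3, u4⟩ := hc2 ⟨b, mem_sup_right hbB⟩ 0 1 (by
      simp only [pow_one, pow_zero, one_mul]
      rw [← mem_centralizer_iff.1 (hBcR hbB) e₂ he₂, mul_inv_cancel_right])
    apply Subtype.ext
    ext i j
    fin_cases i <;> fin_cases j <;> simp [u1, u2, u3, u4]
  refine ⟨MulEquiv.ofBijective ψ ⟨?_, ?_⟩, hc3⟩
  · rw [← MonoidHom.ker_eq_bot_iff, eq_bot_iff]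
    intro x hx
    have h : (x : G) ∈ (A ⊔ B) ⊓ centralizer (W : Set G) := ⟨x.2, (hker x).1 hx⟩
    rw [hfaith, mem_bot] at h
    exact Subtype.ext h
  · rw [← MonoidHom.range_eq_top]
    exact SL2.eq_top_of_upper_lower p one_ne_zero ht0 ⟨_, hψa⟩ ⟨_, hψb⟩

end FFSetup

end Cfsg.Agent.H34
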