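import Cfsg.Agent.H93.Normal
import Cfsg.Agent.H93.Saturation

namespace Cfsg.Agent.H34.TwoAbelian

open Cfsg Cfsg.FusionSystem Cfsg.Agent.H93

variable {Ω : Type*} [Group Ω] {S : Subgroup Ω} {F : FusionSystem S}

theorem fn_of_central [Finite S] {Q : Subgroup Ω} (hQS : Q ≤ S)
    (hQc : S ≤ Subgroup.centralizer (Q : Set Ω)) : F.IsFullyNormalized Q := by
  refine ⟨hQS, fun R _ => ?_⟩
  haveI := finite_of_le (normalizerIn_le S Q)
  exact Subgroup.card_le_of_le (inf_le_left.trans
    (le_inf le_rfl (hQc.trans (Subgroup.centralizer_le_normalizer _))))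

theorem abelian_of_conj_center [Finite S] (hS : IsPGroup 2 S) (hF : F.IsSaturated 2)
    (h : ∀ x ∈ S, ∃ z ∈ S ⊓ Subgroup.centralizer (S : Set Ω), F.IsConjElt x z) :
    ∀ a ∈ S, ∀ b ∈ S, a * b = b * a := by
  classical
  haveI : Fact (Nat.Prime 2) := ⟨Nat.prime_two⟩
  have hinv : ∀ x ∈ S, ∀ y ∈ S, y * x * y⁻¹ = x⁻¹ → x * x = 1 := by
    intro x hx y hy hxy
    obtain ⟨z, hz, φ, hφ, hφx⟩ := h x hx
    obtain ⟨hzS, hzc⟩ := Subgroup.mem_inf.mp hz
    set Q := φ.range with hQ
    have hzQ : Q = Subgroup.zpowers z := by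
      rw [hQ, MonoidHom.range_eq_map, ← hφx, ← MonoidHom.map_zpowers]
      congr 1
      rw [eq_comm, eq_top_iff]
      rintro ⟨w, i, rfl⟩ -
      exact ⟨i, Subtype.ext (by simp)⟩
    have hQS : Q ≤ S := by rw [hzQ]; exact Subgroup.zpowers_le.mpr hzS
    have hQc : S ≤ Subgroup.centralizer (Q : Set Ω) := by
      intro s hs
      rw [hzQ]
      refine Subgroup.mem_centralizer_iff.mpr fun w hw => ?_
      obtain ⟨i, rfl⟩ := Subgroup.mem_zpowers_iff.mp hw
      exact ((show Commute s z from Subgroup.mem_centralizer_iff.mp hzc s hs).zpow_right i).eq.symm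
    have haut : (autInducedBy S Q) = ⊥ := by
      rw [eq_bot_iff, autInducedBy, Subgroup.closure_le]
      rintro α ⟨g, hg, hα⟩
      refine Subgroup.mem_bot.mpr (MulEquiv.ext fun w => Subtype.ext ?_)
      rw [hα, ← Subgroup.mem_centralizer_iff.mp (hQc hg) w w.2]
      simp
    obtain ⟨-, R, hR⟩ := IsFullyNormalized.isFullyAutomized hS hF (fn_of_central hQS hQc)
    rw [haut, Subgroup.bot_subgroupOf] at hR
    haveI := finite_of_le hQS
    have hPS : Subgroup.zpowers x ≤ S := Subgroup.zpowers_le.mpr hx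
    have hyN : y ∈ normalizerIn S (Subgroup.zpowers x) := by
      refine Subgroup.mem_inf.mpr ⟨hy, ?_⟩
      refine Subgroup.mem_normalizer_iff_map_conj_eq.mpr ?_
      rw [MonoidHom.map_zpowers]
      show Subgroup.zpowers (y * x * y⁻¹) = _
      rw [hxy, Subgroup.zpowers_inv]
    let α := conjAut S (Subgroup.zpowers x) ⟨y, hyN⟩
    have hα : α ∈ F.autGroup (Subgroup.zpowers x) := autInducedBy_le_autGroup F hPS
      (mem_autInducedBy.mpr ⟨y, hy, fun w => conjAut_apply S (Subgroup.zpowers x) ⟨y, hyN⟩ w⟩)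
    have hi := F.injective_of_mem hφ
    have hβmem := autCongr_mem hφ (rfl : φ.range = Q) hα
    set β := autCongr φ hi (rfl : φ.range = Q) α with hβ
    have hzQ' : z ∈ Q := by rw [hzQ]; exact Subgroup.mem_zpowers z
    have hβz : ((β ⟨z, hzQ'⟩ : Q) : Ω) = z⁻¹ := by
      have h1 := autCongr_apply φ hi (rfl : φ.range = Q) α ⟨x, Subgroup.mem_zpowers x⟩
      have h2 : α ⟨x, Subgroup.mem_zpowers x⟩ = (⟨x, Subgroup.mem_zpowers x⟩ : Subgroup.zpowers x)⁻¹ :=
        Subtype.ext (by rw [conjAut_apply]; exact hxy)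
      rw [h2, map_inv] at h1
      rw [show homEquiv φ hi (rfl : φ.range = Q) ⟨x, Subgroup.mem_zpowers x⟩ = ⟨z, hzQ'⟩ from
        Subtype.ext hφx] at h1
      simpa [hφx] using h1
    have hβ2 : β ^ 2 = 1 := by
      refine MulEquiv.ext fun w => ?_
      have hw : (w : Ω) ∈ Subgroup.zpowers z := hzQ ▸ w.2
      obtain ⟨i, hi'⟩ := Subgroup.mem_zpowers_iff.mp hw
      have hwz : w = (⟨z, hzQ'⟩ : Q) ^ i := Subtype.ext (by simp [hi'])
      have : β ⟨z, hzQ'⟩ = (⟨z, hzQ'⟩ : Q)⁻¹ := Subtype.ext hβz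
      rw [hwz, pow_two, MulAut.mul_apply, map_zpow, map_zpow, this, map_inv, this, inv_inv]
      rfl
    have hβ1 : β = 1 := by
      by_contra hne
      have hord : orderOf (⟨β, hβmem⟩ : F.autGroup Q) = 2 :=
        orderOf_eq_prime (Subtype.ext hβ2) fun e => hne (congrArg Subtype.val e)
      have hcard := R.card_eq_multiplicity
      rw [hR, Subgroup.card_bot] at hcard
      have hdvd : 2 ∣ Nat.card (F.autGroup Q) := hord ▸ orderOf_dvd_natCard _
      have hpos := Nat.Prime.factorization_pos_of_dvd Nat.prime_two Nat.card_pos.ne' hdvd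
      have hgt : 2 ^ 1 ≤ 2 ^ (Nat.card (F.autGroup Q)).factorization 2 :=
        Nat.pow_le_pow_right (by norm_num) hpos
      omega
    rw [hβ1] at hβz
    have hzz : z * z = 1 := by
      have : z = z⁻¹ := by simpa using hβz
      rw [← inv_mul_cancel z]; rw [← this]
    have hxx : φ (⟨x, Subgroup.mem_zpowers x⟩ * ⟨x, Subgroup.mem_zpowers x⟩) = 1 := by
      rw [map_mul, hφx, hzz]
    exact congrArg Subtype.val ((map_eq_one_iff _ hi).mp hxx)
  -- involutions commute
  have hcomm : ∀ u ∈ S, ∀ v ∈ S, u * u = 1 → v * v = 1 → u * v = v * u := by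
    intro u hu v hv hu2 hv2
    have hu' : u⁻¹ = u := inv_eq_of_mul_eq_one_right hu2
    have hv' : v⁻¹ = v := inv_eq_of_mul_eq_one_right hv2
    have hsq := hinv (u * v) (mul_mem hu hv) u hu (by
      simp only [mul_inv_rev, hu', hv', ← mul_assoc, hu2, one_mul])
    calc u * v = (u * v)⁻¹ := eq_inv_of_mul_eq_one_left hsq
      _ = v * u := by rw [mul_inv_rev, hu', hv']
  let E : Subgroup Ω :=
    { carrier := {g | g ∈ S ∧ g * g = 1}
      one_mem' := ⟨one_mem _, one_mul 1⟩
      mul_mem' := fun {a b} ha hb => ⟨mul_mem ha.1 hb.1, by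
        rw [mul_assoc, ← mul_assoc b, ← hcomm a ha.1 b hb.1 ha.2 hb.2, mul_assoc, hb.2, mul_one,
          ha.2]⟩
      inv_mem' := fun {a} ha => ⟨inv_mem ha.1, by rw [← mul_inv_rev, ha.2, inv_one]⟩ }
  have hEsc : F.StronglyClosed E := by
    refine ⟨fun g hg => hg.1, fun R hR φ hφ w => ⟨(F.le_of_mem hφ).2 w, ?_⟩⟩
    rw [← map_mul]
    convert map_one φ
    exact Subtype.ext (hR w.2).2
  obtain ⟨hES, hEn⟩ := isNormal_of_stronglyClosed_abelian hS hF hEsc
    (fun a ha b hb => hcomm a ha.1 b hb.1 ha.2 hb.2)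
  have hEc : ∀ e ∈ E, ∀ y ∈ S, e * y = y * e := by
    intro e he y hy
    obtain ⟨z, hz, φ, hφ, hφy⟩ := h y hy
    obtain ⟨ψ, hψ, hext, hψE⟩ := hEn _ φ hφ
    set ey : ↥(Subgroup.zpowers y ⊔ E) := Subgroup.inclusion le_sup_left ⟨y, Subgroup.mem_zpowers y⟩
    set ee : ↥(Subgroup.zpowers y ⊔ E) := Subgroup.inclusion le_sup_right ⟨e, he⟩
    have h1 : ψ ey = z := (hext _).trans hφy
    have h2 : ψ ee ∈ S := (F.le_of_mem hψ).2 _
    have h3 : ψ (ee * ey) = ψ (ey * ee) := by
      rw [map_mul, map_mul, h1]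
      exact Subgroup.mem_centralizer_iff.mp (Subgroup.mem_inf.mp hz).2 _ h2
    exact congrArg Subtype.val (F.injective_of_mem hψ h3)
  have hcentral : ∀ n : ℕ, ∀ x ∈ S, x ^ 2 ^ n = 1 → ∀ s ∈ S, x * s = s * x := by
    intro n
    induction n with
    | zero => intro x _ hx1 s _; simp at hx1; simp [hx1]
    | succ n ih =>
      intro x hx hxn
      have hxx : ∀ s ∈ S, x * x * s = s * (x * x) :=
        ih (x * x) (mul_mem hx hx) (by rw [← pow_two, ← pow_mul, ← pow_succ', hxn])
      obtain ⟨z, hz, φ, hφ, hφx⟩ := h x hx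
      obtain ⟨hzS, hzc⟩ := Subgroup.mem_inf.mp hz
      -- the inverse map, restricted to `⟨z * z⟩`
      have hzP : z ∈ φ.range := ⟨⟨x, Subgroup.mem_zpowers x⟩, hφx⟩
      have hsub : Subgroup.zpowers (z * z) ≤ φ.range := Subgroup.zpowers_le.mpr (mul_mem hzP hzP)
      obtain ⟨χ, hχ, hχφ⟩ := F.inv_mem hφ
      have hχz : χ ⟨z * z, mul_mem hzP hzP⟩ = x * x := by
        have h1 : χ ⟨z, hzP⟩ = x := by
          have := hχφ ⟨x, Subgroup.mem_zpowers x⟩
          simp only [hφx] at this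
          exact this
        rw [show (⟨z * z, mul_mem hzP hzP⟩ : φ.range) = ⟨z, hzP⟩ * ⟨z, hzP⟩ from rfl, map_mul, h1]
      have hθ := restrict_mem hχ hsub
      set θ := χ.comp (Subgroup.inclusion hsub) with hθdef
      have hθz : θ ⟨z * z, Subgroup.mem_zpowers _⟩ = x * x := hχz
      have hQeq : θ.range = Subgroup.zpowers (x * x) := by
        rw [MonoidHom.range_eq_map, ← hθz, ← MonoidHom.map_zpowers]
        congr 1
        rw [eq_comm, eq_top_iff]
        rintro ⟨w, i, rfl⟩ -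
        exact ⟨i, Subtype.ext (by simp)⟩
      have hQS : θ.range ≤ S := range_le hθ
      have hQc : S ≤ Subgroup.centralizer (θ.range : Set Ω) := by
        intro s hs
        rw [hQeq]
        refine Subgroup.mem_centralizer_iff.mpr fun w hw => ?_
        obtain ⟨i, rfl⟩ := Subgroup.mem_zpowers_iff.mp hw
        exact ((show Commute s (x * x) from (hxx s hs).symm).zpow_right i).eq.symm
      obtain ⟨ψ, hψ, hψθ⟩ := exists_extension hθ rfl
        (IsFullyNormalized.isReceptive hS hF (fn_of_central hQS hQc))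
      have hSext : S ≤ extender S (Subgroup.zpowers (z * z)) θ := by
        refine le_trans (le_inf le_rfl fun s hs => Subgroup.mem_centralizer_iff.mpr fun w hw => ?_)
          (centralizerIn_le_extender S _ θ)
        obtain ⟨i, rfl⟩ := Subgroup.mem_zpowers_iff.mp hw
        have hsz : Commute s z := Subgroup.mem_centralizer_iff.mp hzc s hs
        exact ((hsz.mul_right hsz).zpow_right i).eq.symm
      have hψS := restrict_mem hψ hSext
      set ρ := ψ.comp (Subgroup.inclusion hSext)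
      set w := ρ ⟨z, hzS⟩
      have hrS : ρ.range = S := range_eq_self hψS
      have hw2 : w * w = x * x := by
        rw [← map_mul, ← hθz]
        exact hψθ ⟨z * z, Subgroup.mem_zpowers _⟩
      have hwS : w ∈ S := (F.le_of_mem hψS).2 _
      have hwc : ∀ s ∈ S, w * s = s * w := by
        intro s hs
        obtain ⟨t, rfl⟩ : s ∈ ρ.range := hrS.ge hs
        rw [← map_mul, ← map_mul]
        exact congrArg ρ (Subtype.ext (Subgroup.mem_centralizer_iff.mp hzc t t.2).symm)
      have hE : w⁻¹ * x ∈ E := by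
        refine ⟨mul_mem (inv_mem hwS) hx, ?_⟩
        have hc : Commute w x := hwc x hx
        rw [hc.inv_left.eq, mul_assoc, ← mul_assoc w⁻¹ x, hc.inv_left.eq, ← mul_assoc,
          ← mul_assoc, ← hw2, mul_inv_cancel_right, mul_inv_cancel]
      intro s hs
      have := hEc _ hE s hs
      calc x * s = w * ((w⁻¹ * x) * s) := by simp [mul_assoc]
        _ = s * x := by rw [this, ← mul_assoc, hwc s hs]; simp [mul_assoc]
  intro a ha b hb
  obtain ⟨n, hn⟩ := hS ⟨a, ha⟩
  exact hcentral n a ha (by simpa using congrArg Subtype.val hn) b hb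

end Cfsg.Agent.H34.TwoAbelian
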